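import Cfsg.Agent.Lib.Schur.Transfer
import Cfsg.Agent.Lib.Schur.Perfect

/-!
Generalities on lifts along central extensions, used for the multiplier of 3·J₃ (helper75).
-/

set_option autoImplicit false
set_option linter.style.haveILetI false

namespace Cfsg.Agent.J3Mult75

open Subgroup
open scoped commutatorElement

universe u v

variable {E : Type u} [Group E] {T : Type v} [Group T]

theorem mem_center_of_ker {σ : E →* T} (hc : σ.ker ≤ center E) {z : E} (hz : σ z = 1) :
    z ∈ center E := hc (MonoidHom.mem_ker.2 hz)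

/-- An element with the same image is a central multiple. -/
theorem exists_ker_mul (σ : E →* T) {x y : E} (h : σ x = σ y) : ∃ z, σ z = 1 ∧ x = y * z :=
  ⟨y⁻¹ * x, by rw [map_mul, map_inv, h, inv_mul_cancel], by group⟩

theorem central_comm {z : E} (hz : z ∈ center E) (g : E) : g * z = z * g :=
  mem_center_iff.1 hz g

theorem conj_central {z : E} (hz : z ∈ center E) (g : E) : g * z * g⁻¹ = z := by
  rw [central_comm hz, mul_inv_cancel_right]

theorem comm_mul_central {z w : E} (hz : z ∈ center E) (hw : w ∈ center E) (a b : E) :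
    ⁅a * z, b * w⁆ = ⁅a, b⁆ := by
  have hz' : ∀ g, g * z = z * g := central_comm hz
  have hw' : ∀ g, g * w = w * g := central_comm hw
  simp only [commutatorElement_def, mul_inv_rev]
  calc a * z * (b * w) * (z⁻¹ * a⁻¹) * (w⁻¹ * b⁻¹)
      = a * ((b * w) * z) * (z⁻¹ * a⁻¹) * (w⁻¹ * b⁻¹) := by rw [hz' (b * w)]; group
    _ = a * b * (a⁻¹ * w) * (w⁻¹ * b⁻¹) := by rw [hw' a⁻¹]; group
    _ = a * b * a⁻¹ * b⁻¹ := by group

/-- If `a` commutes in the quotient with an element of odd exponent, lifts commute, the kernel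
having exponent two. -/
theorem comm_of_odd (σ : E →* T) (hc : σ.ker ≤ center E) (h2 : ∀ z, σ z = 1 → z ^ 2 = 1)
    {a y : E} {m : ℕ} (hm : Odd m) (hy : σ y ^ m = 1) (hay : σ a * σ y = σ y * σ a) :
    a * y = y * a := by
  set k := ⁅a, y⁆ with hk
  have hk1 : σ k = 1 := by
    rw [hk, map_commutatorElement, commutatorElement_eq_one_iff_mul_comm]
    exact hay
  have hkc : k ∈ center E := mem_center_of_ker hc hk1
  have e : a * y * a⁻¹ = k * y := by rw [hk, commutatorElement_def]; group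
  have hym : y ^ m ∈ center E := mem_center_of_ker hc (by rw [map_pow, hy])
  have e2 : a * y ^ m * a⁻¹ = k ^ m * y ^ m := by
    rw [← conj_pow, e, Commute.mul_pow (central_comm hkc y).symm]
  rw [conj_central hym, eq_comm] at e2
  have hkm : k ^ m = 1 := by simpa using e2
  obtain ⟨j, rfl⟩ := hm
  rw [pow_succ, pow_mul, h2 k hk1, one_pow, one_mul] at hkm
  exact commutatorElement_eq_one_iff_mul_comm.1 (hk ▸ hkm)

theorem comm_of_prod_odd (σ : E →* T) (hc : σ.ker ≤ center E) (hs : Function.Surjective σ)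
    (h2 : ∀ z, σ z = 1 → z ^ 2 = 1) {a x : E} {y y' : T} {m m' : ℕ} (hm : Odd m) (hm' : Odd m')
    (hy : y ^ m = 1) (hy' : y' ^ m' = 1) (hay : σ a * y = y * σ a) (hay' : σ a * y' = y' * σ a)
    (hx : σ x = y * y') : a * x = x * a := by
  obtain ⟨u, rfl⟩ := hs y
  obtain ⟨v, rfl⟩ := hs y'
  obtain ⟨z, hz, rfl⟩ := exists_ker_mul σ (x := x) (y := u * v) (by rw [hx, map_mul])
  have hu : Commute a u := comm_of_odd σ hc h2 hm hy hay
  have hv : Commute a v := comm_of_odd σ hc h2 hm' hy' hay'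
  exact ((hu.mul_right hv).mul_right (central_comm (mem_center_of_ker hc hz) a)).eq

/-- Lifts of conjugate involutions have the same square. -/
theorem sq_eq_of_conj (σ : E →* T) (hc : σ.ker ≤ center E) (hs : Function.Surjective σ)
    (h2 : ∀ z, σ z = 1 → z ^ 2 = 1) {a b : E} (c : T) (ha : σ a ^ 2 = 1)
    (h : c * σ a = σ b * c) : b ^ 2 = a ^ 2 := by
  obtain ⟨c, rfl⟩ := hs c
  obtain ⟨z, hz, hb⟩ := exists_ker_mul σ (x := b) (y := c * a * c⁻¹)
    (by rw [map_mul, map_mul, map_inv, h, mul_inv_cancel_right])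
  rw [hb, Commute.mul_pow (central_comm (mem_center_of_ker hc hz) (c * a * c⁻¹)), h2 z hz,
    mul_one, conj_pow, conj_central (mem_center_of_ker hc (by rw [map_pow, ha]))]

/-- An element central modulo the kernel is central, the group being perfect. -/
theorem mem_center_of_image (σ : E →* T) (hc : σ.ker ≤ center E) (hE : Group.IsPerfect E) {c : E}
    (h : ∀ t, t * σ c = σ c * t) : c ∈ center E := by
  refine Cfsg.Agent.Schur.mem_center_of_perfect hE c fun g => mem_center_of_ker hc ?_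
  rw [map_commutatorElement, commutatorElement_eq_one_iff_mul_comm]
  exact (h (σ g)).symm

/-- To prove that every stem extension is trivial it is enough to treat kernels of prime order. -/
theorem ker_eq_bot_of_prime {G : Type v} [Group G]
    (h : ∀ (Δ : Type u) [Group Δ] [Finite Δ] (τ : Δ →* G), Cfsg.IsStemExtension τ →
      (Nat.card τ.ker).Prime →
      ∃ S : Subgroup G, ¬ Nat.card τ.ker ∣ S.index ∧ τ.ker ⊓ ⁅S.comap τ, S.comap τ⁆ = ⊥)
    {Γ : Type u} [Group Γ] [Finite Γ] (σ : Γ →* G) (hσ : Cfsg.IsStemExtension σ) : σ.ker = ⊥ := by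
  classical
  by_contra hne
  haveI : Nontrivial σ.ker := (Subgroup.nontrivial_iff_ne_bot _).2 hne
  -- a maximal proper subgroup of the kernel
  obtain ⟨M, hM⟩ := (Set.toFinite {M : Subgroup Γ | M < σ.ker}).exists_maximal
    ⟨⊥, bot_lt_iff_ne_bot.2 hne⟩
  have hMK : M < σ.ker := hM.1
  haveI : M.Normal := ⟨fun m hm g => by rwa [conj_central (hσ.2.1 (hMK.le hm)) g]⟩
  let τ : Γ ⧸ M →* G := QuotientGroup.lift M σ hMK.le
  have hker : τ.ker = σ.ker.map (QuotientGroup.mk' M) := by
    ext x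
    obtain ⟨x, rfl⟩ := QuotientGroup.mk_surjective x
    constructor
    · exact fun hx => ⟨x, MonoidHom.mem_ker.2 (MonoidHom.mem_ker.1 hx), rfl⟩
    · rintro ⟨y, hy, e⟩
      rw [MonoidHom.mem_ker]
      have : τ (QuotientGroup.mk' M y) = 1 := hy
      rw [e] at this
      exact this
  have hτ : Cfsg.IsStemExtension τ := by
    refine ⟨QuotientGroup.lift_surjective_of_surjective M σ hσ.1 hMK.le, ?_, ?_⟩
    · rw [hker]
      rintro _ ⟨y, hy, rfl⟩
      rw [mem_center_iff]
      intro g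
      obtain ⟨g, rfl⟩ := QuotientGroup.mk_surjective g
      rw [QuotientGroup.mk'_apply, ← QuotientGroup.mk_mul, ← QuotientGroup.mk_mul,
        central_comm (hσ.2.1 hy)]
    · rw [hker]
      rintro _ ⟨y, hy, rfl⟩
      have := Subgroup.mem_map_of_mem (QuotientGroup.mk' M) (hσ.2.2 hy)
      rw [_root_.commutator_def, map_commutator,
        Subgroup.map_top_of_surjective _ (QuotientGroup.mk'_surjective M)] at this
      exact this
  -- every proper subgroup of the new kernel is trivial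
  have hmax : ∀ z, z ∈ σ.ker → z ∉ M → M ⊔ zpowers z = σ.ker := by
    intro z hz hzM
    refine (sup_le hMK.le (zpowers_le.2 hz)).eq_of_not_lt fun hlt => hzM ?_
    exact hM.2 hlt le_sup_left (Subgroup.mem_sup_right (mem_zpowers z))
  haveI : Nontrivial τ.ker := by
    rw [Subgroup.nontrivial_iff_ne_bot, hker]
    intro e
    rw [Subgroup.map_eq_bot_iff, QuotientGroup.ker_mk'] at e
    exact hMK.not_ge e
  letI : CommGroup τ.ker :=
    { (inferInstance : Group τ.ker) with
      mul_comm := fun a b => Subtype.ext (central_comm (hτ.2.1 b.2) a.1) }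
  haveI : IsSimpleGroup τ.ker := by
    refine ⟨fun N _ => or_iff_not_imp_left.2 fun hN => eq_top_iff.2 fun x _ => ?_⟩
    obtain ⟨w, hw⟩ := (Subgroup.ne_bot_iff_exists_ne_one).1 hN
    obtain ⟨z, hz, hzw⟩ : (w : τ.ker).1 ∈ σ.ker.map (QuotientGroup.mk' M) := hker ▸ (w : τ.ker).2
    have hzM : z ∉ M := fun hm => hw (Subtype.ext (Subtype.ext (by
      rw [← hzw]; exact (QuotientGroup.eq_one_iff z).2 hm)))
    obtain ⟨y, hy, hyx⟩ : x.1 ∈ σ.ker.map (QuotientGroup.mk' M) := hker ▸ x.2
    rw [← hmax z hz hzM] at hy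
    have h2 : x.1 ∈ (zpowers z).map (QuotientGroup.mk' M) := by
      have := Subgroup.mem_map_of_mem (QuotientGroup.mk' M) hy
      rw [hyx, Subgroup.map_sup, QuotientGroup.map_mk'_self, bot_sup_eq] at this
      exact this
    obtain ⟨_, ⟨i, rfl⟩, hi⟩ := h2
    have : x = (w : τ.ker) ^ i := Subtype.ext (by
      rw [SubgroupClass.coe_zpow, ← hzw, ← map_zpow]; exact hi.symm)
    rw [this]
    exact zpow_mem w.2 i
  have hp : (Nat.card τ.ker).Prime := IsSimpleGroup.prime_card
  obtain ⟨S, hS, hSH⟩ := h (Γ ⧸ M) τ hτ hp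
  obtain ⟨⟨w, hw⟩, hw1⟩ := exists_ne (1 : τ.ker)
  have hmem := Cfsg.Agent.Schur.pow_index_mem_commutator (S.comap τ) (hτ.2.1 hw) (hτ.2.2 hw)
  rw [Subgroup.map_subtype_commutator, Subgroup.index_comap_of_surjective S hτ.1] at hmem
  have h1 : w ^ S.index ∈ τ.ker ⊓ ⁅S.comap τ, S.comap τ⁆ := ⟨pow_mem hw _, hmem⟩
  rw [hSH, Subgroup.mem_bot] at h1
  haveI := Fact.mk hp
  have ho : orderOf w = Nat.card τ.ker := by
    refine orderOf_eq_prime ?_ (fun e => hw1 (Subtype.ext e))
    exact congrArg Subtype.val (pow_card_eq_one' (G := τ.ker) (x := ⟨w, hw⟩))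
  exact hS (ho ▸ orderOf_dvd_of_pow_eq_one h1)

end Cfsg.Agent.J3Mult75
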