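import Cfsg.Agent.J3Mult75.ThreeLocal

/-!
The subgroup at the prime three has at least 729 elements (helper75).
-/

set_option autoImplicit false

namespace Cfsg.Agent.J3Mult75

open Subgroup
open scoped commutatorElement

universe v

variable {T : Type v} [Group T]

theorem reorder {c l y n : T} (hc : ∀ w, Commute c w) (hly : Commute l y) (i m : ℕ) :
    (c * l) ^ i * y * c ^ m * (l * c ^ 2 * n) = l ^ (i + 1) * y * c ^ (i + m + 2) * n := by
  calc (c * l) ^ i * y * c ^ m * (l * c ^ 2 * n)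
      = c ^ i * (l ^ i * y * (c ^ m * l)) * c ^ 2 * n := by
        rw [(hc l).mul_pow]; simp only [mul_assoc]
    _ = c ^ i * (l ^ i * (y * l) * c ^ m) * c ^ 2 * n := by
        rw [((hc l).pow_left m).eq]; simp only [mul_assoc]
    _ = (l ^ i * (l * y) * c ^ m) * c ^ i * c ^ 2 * n := by
        rw [((hc _).pow_left i).eq, hly.eq]
    _ = l ^ (i + 1) * y * (c ^ m * c ^ i * c ^ 2) * n := by
        rw [pow_succ l i]; simp only [mul_assoc]
    _ = l ^ (i + 1) * y * c ^ (i + m + 2) * n := by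
        rw [← pow_add, ← pow_add, add_comm m i]

theorem ThreeRel.card_le (R : ThreeRel T) [Finite T] : 729 ≤ Nat.card R.grp := by
  have hc : R.c ∈ center T := mem_center_iff.2 R.c_central
  have hC : ∀ w, Commute R.c w := fun w => (R.c_central w).symm
  have conj_eq : ∀ d x : T, d * x * d⁻¹ = ⁅d, x⁆ * x := fun d x => by
    simp only [commutatorElement_def]; group
  have g2n : R.g ^ 2 * R.n * (R.g ^ 2)⁻¹ = R.n := by
    have e : R.g ^ 2 * R.n * (R.g ^ 2)⁻¹ = R.g * (R.g * R.n * R.g⁻¹) * R.g⁻¹ := by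
      rw [pow_two, mul_inv_rev]; simp only [mul_assoc]
    rw [e, R.gn, ← conj_inv, R.gn, inv_inv]
  have l2n : Commute R.L2 R.n := by
    have h := (show Commute R.L1 R.n from R.l1n).map (MulAut.conj (R.g ^ 2)).toMonoidHom
    simp only [MulEquiv.coe_toMonoidHom, MulAut.conj_apply] at h
    rwa [g2n, R.l2_def] at h
  have g2l2 : R.g ^ 2 * R.L2 * (R.g ^ 2)⁻¹ = R.L1⁻¹ := by
    rw [← R.ul1, ← R.l2_def]; group
  have d2n : ⁅R.D2, R.n⁆ = R.L2 * R.c⁻¹ := by
    have e := conj_commutator (R.g ^ 2) R.D1 R.n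
    rw [R.d2_def, g2n, R.d1n, ← conj_mul, R.l2_def, conj_central (inv_mem hc)] at e
    exact e.symm
  have d2l2 : ⁅R.D2, R.L2⁆ = R.c := by
    have e := conj_commutator (R.g ^ 2) R.D1 R.L1
    rw [R.d2_def, R.l2_def, R.d1l1, conj_central hc] at e
    exact e.symm
  -- conjugates of n
  have hq : ∀ i j : ℕ, ∃ m : ℕ,
      R.D1 ^ i * R.D2 ^ j * R.n * (R.D1 ^ i * R.D2 ^ j)⁻¹ = R.L1 ^ i * R.L2 ^ j * R.c ^ m * R.n := by
    have hc3 : R.c ^ 3 = 1 := by
      have h : ⁅R.D1, R.L1⁆ ∈ center T := R.d1l1.symm ▸ hc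
      have h1 : ⁅R.D1, R.L1 * R.L1⁆ = R.c * R.c := by
        rw [comm_mul_right_of_central h, R.d1l1]
      have h2 : ⁅R.D1, R.L1 * R.L1 * R.L1⁆ = R.c * R.c * R.c := by
        rw [comm_mul_right_of_central h, h1, R.d1l1]
      rw [show R.L1 * R.L1 * R.L1 = R.L1 ^ 3 by simp [pow_succ], R.l13,
        commutatorElement_one_right] at h2
      rw [show R.c ^ 3 = R.c * R.c * R.c by simp [pow_succ], ← h2]
    have hci : R.c⁻¹ = R.c ^ 2 := inv_eq_of_mul_eq_one_right (by rw [← pow_succ', hc3])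
    have base : ∀ j : ℕ, ∃ m : ℕ,
        R.D2 ^ j * R.n * (R.D2 ^ j)⁻¹ = R.L2 ^ j * R.c ^ m * R.n := by
      intro j
      induction j with
      | zero => exact ⟨0, by simp⟩
      | succ j ih =>
        obtain ⟨m, e⟩ := ih
        refine ⟨j + m + 2, ?_⟩
        have e2 : R.D2 * R.L2 * R.D2⁻¹ = R.c * R.L2 := by rw [conj_eq, d2l2]
        calc R.D2 ^ (j + 1) * R.n * (R.D2 ^ (j + 1))⁻¹
            = R.D2 * (R.D2 ^ j * R.n * (R.D2 ^ j)⁻¹) * R.D2⁻¹ := by
              rw [pow_succ' R.D2 j, mul_inv_rev]; simp only [mul_assoc]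
          _ = (R.c * R.L2) ^ j * R.c ^ m * (R.L2 * R.c ^ 2 * R.n) := by
              rw [e, ← conj_mul, ← conj_mul, ← conj_pow, e2, conj_central (pow_mem hc m),
                conj_eq R.D2 R.n, d2n, hci]
          _ = R.L2 ^ (j + 1) * R.c ^ (j + m + 2) * R.n := by
              simpa using reorder (y := 1) (n := R.n) hC (Commute.one_right R.L2) j m
    intro i j
    induction i with
    | zero => simpa using base j
    | succ i ih =>
      obtain ⟨m, e⟩ := ih
      refine ⟨i + m + 2, ?_⟩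
      have e1 : R.D1 * R.L1 * R.D1⁻¹ = R.c * R.L1 := by rw [conj_eq, R.d1l1]
      have e2 : R.D1 * R.L2 * R.D1⁻¹ = R.L2 := by rw [conj_eq, R.d1l2, one_mul]
      have hl : Commute R.L1 (R.L2 ^ j) := (show Commute R.L1 R.L2 from R.l1l2).pow_right j
      calc R.D1 ^ (i + 1) * R.D2 ^ j * R.n * (R.D1 ^ (i + 1) * R.D2 ^ j)⁻¹
          = R.D1 * (R.D1 ^ i * R.D2 ^ j * R.n * (R.D1 ^ i * R.D2 ^ j)⁻¹) * R.D1⁻¹ := by
            rw [pow_succ' R.D1 i]; simp only [mul_assoc, mul_inv_rev]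
        _ = (R.c * R.L1) ^ i * R.L2 ^ j * R.c ^ m * (R.L1 * R.c ^ 2 * R.n) := by
            rw [e, ← conj_mul, ← conj_mul, ← conj_mul, ← conj_pow, ← conj_pow, e1, e2,
              conj_central (pow_mem hc m), conj_eq R.D1 R.n, R.d1n, hci]
        _ = R.L1 ^ (i + 1) * R.L2 ^ j * R.c ^ (i + m + 2) * R.n := by
            exact reorder hC hl i m
  have mem : ∀ {x}, x ∈ ({R.n, R.L1, R.L2, R.c, R.D1, R.D2} : Set T) → x ∈ R.grp :=
    fun h => subset_closure h
  let p : Fin 3 × Fin 3 × Fin 3 × Fin 3 → T := fun e =>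
    R.n ^ e.1.val * R.L1 ^ e.2.1.val * R.L2 ^ e.2.2.1.val * R.c ^ e.2.2.2.val
  let f : (Fin 3 × Fin 3 × Fin 3 × Fin 3) × Fin 3 × Fin 3 → R.grp := fun e =>
    ⟨p e.1 * (R.D1 ^ e.2.1.val * R.D2 ^ e.2.2.val), by
      refine mul_mem (mul_mem (mul_mem (mul_mem ?_ ?_) ?_) ?_) (mul_mem ?_ ?_) <;>
        refine pow_mem (mem ?_) _ <;> simp⟩
  have hf : Function.Injective f := by
    rintro ⟨a, i, j⟩ ⟨a', i', j'⟩ h
    have h' : p a * (R.D1 ^ i.val * R.D2 ^ j.val) = p a' * (R.D1 ^ i'.val * R.D2 ^ j'.val) :=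
      congrArg Subtype.val h
    obtain ⟨m, em⟩ := hq i.val j.val
    obtain ⟨m', em'⟩ := hq i'.val j'.val
    -- n and the conjugates of n commute with every p
    have hpn : ∀ b, ∀ k l m : ℕ, Commute (p b) (R.L1 ^ k * R.L2 ^ l * R.c ^ m * R.n) := by
      intro b k l m
      have hs : ∀ x, x ∈ ({R.n, R.L1, R.L2, R.c} : Set T) →
          Commute x (R.L1 ^ k * R.L2 ^ l * R.c ^ m * R.n) := by
        have h12 : Commute R.L1 R.L2 := R.l1l2
        have h1n : Commute R.L1 R.n := R.l1n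
        rintro x (rfl | rfl | rfl | rfl)
        · exact (((h1n.symm.pow_right k).mul_right (l2n.symm.pow_right l)).mul_right
            ((hC _).symm.pow_right m)).mul_right (Commute.refl _)
        · exact ((((Commute.refl _).pow_right k).mul_right (h12.pow_right l)).mul_right
            ((hC _).symm.pow_right m)).mul_right h1n
        · exact (((h12.symm.pow_right k).mul_right ((Commute.refl _).pow_right l)).mul_right
            ((hC _).symm.pow_right m)).mul_right l2n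
        · exact hC _
      exact ((((hs _ (by simp)).pow_left _).mul_left ((hs _ (by simp)).pow_left _)).mul_left
        ((hs _ (by simp)).pow_left _)).mul_left ((hs _ (by simp)).pow_left _)
    have hn' : R.L1 ^ i.val * R.L2 ^ j.val * R.c ^ m * R.n =
        R.L1 ^ i'.val * R.L2 ^ j'.val * R.c ^ m' * R.n := by
      calc _ = p a * (R.L1 ^ i.val * R.L2 ^ j.val * R.c ^ m * R.n) * (p a)⁻¹ := by
            rw [(hpn a _ _ _).eq, mul_inv_cancel_right]
        _ = (p a * (R.D1 ^ i.val * R.D2 ^ j.val)) * R.n *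
            (p a * (R.D1 ^ i.val * R.D2 ^ j.val))⁻¹ := by rw [← em]; group
        _ = (p a' * (R.D1 ^ i'.val * R.D2 ^ j'.val)) * R.n *
            (p a' * (R.D1 ^ i'.val * R.D2 ^ j'.val))⁻¹ := by rw [h']
        _ = p a' * (R.L1 ^ i'.val * R.L2 ^ j'.val * R.c ^ m' * R.n) * (p a')⁻¹ := by
            rw [← em']; group
        _ = _ := by rw [(hpn a' _ _ _).eq, mul_inv_cancel_right]
    have hc3 : R.c ^ 3 = 1 := by
      have h : ⁅R.D1, R.L1⁆ ∈ center T := R.d1l1.symm ▸ hc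
      have h1 : ⁅R.D1, R.L1 * R.L1⁆ = R.c * R.c := by rw [comm_mul_right_of_central h, R.d1l1]
      have h2 : ⁅R.D1, R.L1 * R.L1 * R.L1⁆ = R.c * R.c * R.c := by
        rw [comm_mul_right_of_central h, h1, R.d1l1]
      rw [show R.L1 * R.L1 * R.L1 = R.L1 ^ 3 by simp [pow_succ], R.l13,
        commutatorElement_one_right] at h2
      rw [show R.c ^ 3 = R.c * R.c * R.c by simp [pow_succ], ← h2]
    have := @R.inj (0, i, j, ⟨m % 3, by omega⟩) (0, i', j', ⟨m' % 3, by omega⟩) (by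
      simpa [← pow_eq_pow_mod _ hc3] using mul_right_cancel hn')
    simp only [Prod.mk.injEq] at this
    obtain ⟨-, rfl, rfl, -⟩ := this
    have ha : a = a' := @R.inj a a' (mul_right_cancel h')
    rw [ha]
  have := Nat.card_le_card_of_injective f hf
  simpa using this

end Cfsg.Agent.J3Mult75
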