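import Cfsg.Agent.J3Mult75.TwoData
import Mathlib.GroupTheory.Index
import Mathlib.Data.List.Rotate
import Mathlib.Data.List.GetD
import Mathlib.Tactic.NormNum
import Mathlib.Data.Nat.Bitwise

/-!
A group generated by three elements satisfying the relators has order at most 128 (helper75).
-/

set_option autoImplicit false

namespace Cfsg.Agent.J3Mult75

/-- Right multiplication in the table. -/
def nxt (i g : ℕ) : ℕ := Nat.land (Nat.shiftRight tab (8 * (3 * i + g))) 255

/-- The representative word. -/
def repW (i : ℕ) : List ℕ := reps.getD i []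

/-- Is an edge known in the mask? -/
def isKnown (K i g : ℕ) : Bool := decide (i < 128) && decide (g < 3) && Nat.testBit K (3 * i + g)

/-- Add an edge and its reverse. -/
def addEdge (K i g : ℕ) : ℕ := K ||| 2 ^ (3 * i + g) ||| 2 ^ (3 * nxt i g + g)

/-- Walk a word along known edges. -/
def walkK (K : ℕ) : ℕ → List ℕ → Option ℕ
  | i, [] => some i
  | i, g :: w => bif isKnown K i g then walkK K (nxt i g) w else none

/-- Perform the deductions. -/
def runSteps : List (ℕ × ℕ × ℕ) → ℕ → Option ℕ
  | [], K => some K
  | (x, r, k) :: ss, K =>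
    match (rels.getD r []).rotate k with
    | [] => none
    | g :: rest =>
      bif decide (x < 128) && decide (g < 3) && decide (nxt x g < 128)
          && decide (nxt (nxt x g) g = x) && (walkK K (nxt x g) rest == some x) then
        runSteps ss (addEdge K x g)
      else none

/-- The tree edges. -/
def treeEdge (i g : ℕ) : Bool :=
  decide (nxt i g < 128) && decide (nxt (nxt i g) g = i) && (repW (nxt i g) == repW i ++ [g])

/-- The initial mask. -/
def initMask : ℕ :=
  (List.range 384).foldl (fun K e => bif treeEdge (e / 3) (e % 3) then addEdge K (e / 3) (e % 3) else K) 0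

variable {E : Type*} [Group E] (v : ℕ → E)

/-- The value of a word. -/
def ev : List ℕ → E
  | [] => 1
  | g :: w => v g * ev w

theorem ev_append : ∀ a b : List ℕ, ev v (a ++ b) = ev v a * ev v b
  | [], b => (one_mul _).symm
  | g :: a, b => by rw [List.cons_append, ev, ev, ev_append a b, mul_assoc]

theorem ev_rotate {w : List ℕ} (h : ev v w = 1) (k : ℕ) : ev v (w.rotate k) = 1 := by
  induction k generalizing w with
  | zero => simpa using h
  | succ k ih =>
    cases w with
    | nil => simpa using h
    | cons a as =>
      rw [List.rotate_cons_succ]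
      refine ih ?_
      rw [ev_append, ev, ev, mul_one]
      exact mul_eq_one_comm.1 h

/-- Soundness of a mask. -/
def Sound (K : ℕ) : Prop :=
  ∀ i < 128, ∀ g < 3, Nat.testBit K (3 * i + g) = true →
    ev v (repW i) * v g = ev v (repW (nxt i g))

theorem code_inj {i g i' g' : ℕ} (hg : g < 3) (hg' : g' < 3) (h : 3 * i + g = 3 * i' + g') :
    i = i' ∧ g = g' := by omega

theorem sound_addEdge (hv : ∀ g < 3, v g * v g = 1) {K x g : ℕ} (hK : Sound v K) (hg : g < 3)
    (hback : nxt (nxt x g) g = x) (h : ev v (repW x) * v g = ev v (repW (nxt x g))) :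
    Sound v (addEdge K x g) := by
  intro i hi g' hg' hb
  rw [addEdge, Nat.testBit_or, Nat.testBit_or, Bool.or_eq_true, Bool.or_eq_true,
    Nat.testBit_two_pow, Nat.testBit_two_pow, decide_eq_true_eq, decide_eq_true_eq] at hb
  rcases hb with (hb | hb) | hb
  · exact hK i hi g' hg' hb
  · obtain ⟨rfl, rfl⟩ := code_inj hg hg' hb
    exact h
  · obtain ⟨rfl, rfl⟩ := code_inj hg hg' hb
    rw [hback, ← h, mul_assoc, hv g hg, mul_one]

theorem sound_walk {K : ℕ} (hK : Sound v K) : ∀ (w : List ℕ) (i j : ℕ), walkK K i w = some j →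
    ev v (repW i) * ev v w = ev v (repW j)
  | [], i, j, h => by
    rw [walkK, Option.some.injEq] at h
    rw [h, ev, mul_one]
  | g :: w, i, j, h => by
    rw [walkK] at h
    cases hk : isKnown K i g with
    | false => rw [hk] at h; cases h
    | true =>
      rw [hk, cond_true] at h
      rw [isKnown, Bool.and_eq_true, Bool.and_eq_true, decide_eq_true_eq, decide_eq_true_eq] at hk
      rw [ev, ← mul_assoc, hK i hk.1.1 g hk.1.2 hk.2, sound_walk hK w _ _ h]

theorem sound_steps (hv : ∀ g < 3, v g * v g = 1) (hr : ∀ r ∈ rels, ev v r = 1) :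
    ∀ (ss : List (ℕ × ℕ × ℕ)) (K K' : ℕ), Sound v K → runSteps ss K = some K' → Sound v K'
  | [], K, K', hK, h => by
    rw [runSteps, Option.some.injEq] at h
    exact h ▸ hK
  | (x, r, k) :: ss, K, K', hK, h => by
    rw [runSteps] at h
    have hrel : ev v ((rels.getD r []).rotate k) = 1 := by
      refine ev_rotate v ?_ k
      rcases Nat.lt_or_ge r rels.length with hl | hl
      · rw [List.getD_eq_getElem _ _ hl]
        exact hr _ (List.getElem_mem hl)
      · rw [List.getD_eq_default _ _ hl, ev]
    revert h hrel
    rcases (rels.getD r []).rotate k with _ | ⟨g, rest⟩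
    · intro h; cases h
    intro h hrel
    simp only at h
    by_cases hc : (decide (x < 128) && decide (g < 3) && decide (nxt x g < 128)
        && decide (nxt (nxt x g) g = x) && (walkK K (nxt x g) rest == some x)) = true
    · rw [hc, cond_true] at h
      simp only [Bool.and_eq_true, decide_eq_true_eq, beq_iff_eq] at hc
      obtain ⟨⟨⟨⟨-, hg⟩, -⟩, hback⟩, hw⟩ := hc
      refine sound_steps hv hr ss _ _ (sound_addEdge v hv hK hg hback ?_) h
      have e := sound_walk v hK rest _ _ hw
      have e2 : ev v rest = v g := by
        rw [← mul_left_cancel_iff (a := v g), hv g hg]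
        exact hrel
      rw [← e, e2, mul_assoc, hv g hg, mul_one]
    · rw [Bool.eq_false_iff.2 hc] at h
      cases h

theorem sound_init (hv : ∀ g < 3, v g * v g = 1) : Sound v initMask := by
  have h0 : Sound v 0 := fun i _ g _ h => by simp at h
  unfold initMask
  generalize List.range 384 = l
  revert h0
  generalize (0 : ℕ) = K
  induction l generalizing K with
  | nil => exact fun h => h
  | cons e l ih =>
    intro hK
    rw [List.foldl_cons]
    apply ih
    cases ht : treeEdge (e / 3) (e % 3) with
    | false => exact hK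
    | true =>
      rw [treeEdge, Bool.and_eq_true, Bool.and_eq_true, decide_eq_true_eq, decide_eq_true_eq,
        beq_iff_eq] at ht
      refine sound_addEdge v hv hK (Nat.mod_lt _ (by norm_num)) ht.1.2 ?_
      rw [ht.2, ev_append, ev, ev, mul_one]

theorem cert_ok : runSteps steps initMask = some (2 ^ 384 - 1) := by decide +kernel

theorem nxt_lt : (List.range 384).all (fun e => decide (nxt (e / 3) (e % 3) < 128)) = true := by
  decide +kernel

theorem repW_zero : repW 0 = [] := by decide +kernel

theorem card_closure_le (hv : ∀ g < 3, v g * v g = 1) (hr : ∀ r ∈ rels, ev v r = 1) :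
    Finite (Subgroup.closure (v '' Set.Iio 3)) ∧
      Nat.card (Subgroup.closure (v '' Set.Iio 3)) ≤ 128 := by
  classical
  have hs : Sound v (2 ^ 384 - 1) := sound_steps v hv hr _ _ _ (sound_init v hv) cert_ok
  let X : Set E := (fun i => ev v (repW i)) '' Set.Iio 128
  have hX : ∀ y ∈ X, ∀ g < 3, y * v g ∈ X := by
    rintro _ ⟨i, hi, rfl⟩ g hg
    have hi' : i < 128 := hi
    refine ⟨nxt i g, ?_, (hs i hi' g hg ?_).symm⟩
    · have := List.all_eq_true.1 nxt_lt (3 * i + g) (List.mem_range.2 (by omega))
      rw [decide_eq_true_eq, show (3 * i + g) / 3 = i by omega, show (3 * i + g) % 3 = g by omega] at this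
      exact this
    · rw [Nat.testBit_two_pow_sub_one, decide_eq_true_eq]
      omega
  have hsub : (Subgroup.closure (v '' Set.Iio 3) : Set E) ⊆ X := by
    intro y hy
    induction hy using Subgroup.closure_induction_right with
    | one => exact ⟨0, Nat.lt_of_sub_eq_succ rfl, by simp [repW_zero, ev]⟩
    | mul_right y z _ hz ih =>
      obtain ⟨g, hg, rfl⟩ := hz
      exact hX y ih g hg
    | mul_inv_cancel y z _ hz ih =>
      obtain ⟨g, hg, rfl⟩ := hz
      rw [inv_eq_of_mul_eq_one_right (hv g hg)]
      exact hX y ih g hg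
  have hfin : X.Finite := (Set.finite_Iio 128).image _
  have hc : X.ncard ≤ 128 := (Set.ncard_image_le (Set.finite_Iio 128)).trans (by
    rw [← Finset.coe_Iio, Set.ncard_coe_finset, Nat.card_Iio])
  refine ⟨(hfin.subset hsub).to_subtype, le_trans ?_ hc⟩
  rw [← Nat.card_coe_set_eq]
  exact Nat.card_mono hfin hsub

end Cfsg.Agent.J3Mult75
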