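import Cfsg.Agent.J3Mult75.Basic
import Cfsg.Agent.J3Mult75.TwoCert

/-!
The prime two in the multiplier of 3·J₃ (helper75).
-/

set_option autoImplicit false

namespace Cfsg.Agent.J3Mult75

open Subgroup
open scoped commutatorElement

universe u v

/-- The relations needed at the prime two. -/
structure TwoRel (T : Type v) [Group T] where
  x : ℕ → T
  t : T
  invol : ∀ g < 3, x g ^ 2 = 1
  prod_invol : (x 1 * x 2) ^ 2 = 1
  conj_gen : ∀ g < 3, ∃ c, c * x g = t * c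
  conj_prod : ∃ c, c * (x 1 * x 2) = t * c
  odd12 : ∃ (y y' : T) (m m' : ℕ), Odd m ∧ Odd m' ∧ y ^ m = 1 ∧ y' ^ m' = 1 ∧
    x 1 * y = y * x 1 ∧ x 1 * y' = y' * x 1 ∧ x 2 = y * y'
  odd0 : ∀ w ∈ [[1, 0, 2, 0, 1, 2], [2, 0, 1, 2, 0, 1]], ∃ (y y' : T) (m m' : ℕ),
    Odd m ∧ Odd m' ∧ y ^ m = 1 ∧ y' ^ m' = 1 ∧
    x 0 * y = y * x 0 ∧ x 0 * y' = y' * x 0 ∧ ev x w = y * y'
  inj : Set.InjOn (fun i => ev x (repW i)) (Set.Iio 128)

variable {E : Type u} [Group E] {T : Type v} [Group T]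

theorem ev_map (σ : E →* T) (v : ℕ → E) : ∀ w, σ (ev v w) = ev (σ ∘ v) w
  | [] => map_one σ
  | g :: w => by rw [ev, map_mul, ev_map σ v w, ev]; rfl

theorem ev_mem (v : ℕ → E) : ∀ w : List ℕ, (∀ g ∈ w, g < 3) →
    ev v w ∈ closure (v '' Set.Iio 3)
  | [], _ => one_mem _
  | g :: w, h => mul_mem (subset_closure ⟨g, h g List.mem_cons_self, rfl⟩)
      (ev_mem v w fun a ha => h a (List.mem_cons_of_mem _ ha))

theorem reps_letters : ∀ i < 128, ∀ g ∈ repW i, g < 3 := by decide +kernel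

/-- The subgroup at the prime two. -/
def TwoRel.grp (R : TwoRel T) : Subgroup T := closure (R.x '' Set.Iio 3)

theorem TwoRel.le_card (R : TwoRel T) [Finite T] : 128 ≤ Nat.card R.grp := by
  let f : Fin 128 → R.grp := fun i => ⟨ev R.x (repW i.1), ev_mem _ _ (reps_letters i.1 i.2)⟩
  have hf : Function.Injective f := fun a b h =>
    Fin.ext (R.inj a.2 b.2 (congrArg Subtype.val h))
  simpa using Nat.card_le_card_of_injective f hf

theorem two_local [Finite T] (σ : E →* T) (hσ : Cfsg.IsStemExtension σ)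
    (h2 : ∀ z, σ z = 1 → z ^ 2 = 1) (R : TwoRel T) :
    σ.ker ⊓ ⁅R.grp.comap σ, R.grp.comap σ⁆ = ⊥ ∧ Nat.card R.grp = 128 := by
  obtain ⟨hs, hc, -⟩ := hσ
  choose a ha using fun g => hs (R.x g)
  obtain ⟨t, ht⟩ := hs R.t
  have hsq : ∀ g < 3, a g ^ 2 = t ^ 2 := fun g hg => by
    obtain ⟨c, hcj⟩ := R.conj_gen g hg
    exact (sq_eq_of_conj σ hc hs h2 (a := a g) (b := t) c (by rw [ha, R.invol g hg])
      (by rw [ha, ht, hcj])).symm
  have ht2 : σ (t ^ 2) = 1 := by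
    rw [← hsq 0 (by norm_num), map_pow, ha, R.invol 0 (by norm_num)]
  have h12 : a 1 * a 2 = a 2 * a 1 := by
    obtain ⟨y, y', m, m', hm, hm', hy, hy', h, h', e⟩ := R.odd12
    exact comm_of_prod_odd σ hc hs h2 hm hm' hy hy' (by rwa [ha]) (by rwa [ha]) (by rw [ha, e])
  have ht1 : t ^ 2 = 1 := by
    obtain ⟨c, hcj⟩ := R.conj_prod
    have e := sq_eq_of_conj σ hc hs h2 (a := a 1 * a 2) (b := t) c
      (by rw [map_mul, ha, ha, R.prod_invol]) (by rw [map_mul, ha, ha, ht, hcj])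
    rw [Commute.mul_pow h12, hsq 1 (by norm_num), hsq 2 (by norm_num)] at e
    exact left_eq_mul.1 e
  have hv : ∀ g < 3, a g * a g = 1 := fun g hg => by rw [← pow_two, hsq g hg, ht1]
  have hw : ∀ w ∈ [[1, 0, 2, 0, 1, 2], [2, 0, 1, 2, 0, 1]], a 0 * ev a w = ev a w * a 0 := by
    intro w hw
    obtain ⟨y, y', m, m', hm, hm', hy, hy', h, h', e⟩ := R.odd0 w hw
    exact comm_of_prod_odd σ hc hs h2 hm hm' hy hy' (by rwa [ha]) (by rwa [ha])
      (by rw [ev_map, show σ ∘ a = R.x from funext ha, e])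
  have hi : ∀ g < 3, (a g)⁻¹ = a g := fun g hg => inv_eq_of_mul_eq_one_right (hv g hg)
  have hr : ∀ r ∈ rels, ev a r = 1 := by
    have e1 := hw [1, 0, 2, 0, 1, 2] (by simp)
    have e2 := hw [2, 0, 1, 2, 0, 1] (by simp)
    intro r hr
    simp only [rels, List.mem_cons, List.not_mem_nil, or_false] at hr
    rcases hr with rfl | rfl | rfl | rfl | rfl | rfl <;> simp only [ev, mul_one]
    · exact hv 0 (by norm_num)
    · exact hv 1 (by norm_num)
    · exact hv 2 (by norm_num)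
    · rw [← mul_assoc (a 2), ← h12, mul_assoc (a 1), hv 2 (by norm_num), mul_one,
        hv 1 (by norm_num)]
    · have : a 0 * ev a [1, 0, 2, 0, 1, 2] * (a 0)⁻¹ * (ev a [1, 0, 2, 0, 1, 2])⁻¹ = 1 := by
        rw [e1, mul_inv_cancel_right, mul_inv_cancel]
      simpa [ev, hi, mul_assoc] using this
    · have : a 0 * ev a [2, 0, 1, 2, 0, 1] * (a 0)⁻¹ * (ev a [2, 0, 1, 2, 0, 1])⁻¹ = 1 := by
        rw [e2, mul_inv_cancel_right, mul_inv_cancel]
      simpa [ev, hi, mul_assoc] using this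
  obtain ⟨hfin, hle⟩ := card_closure_le a hv hr
  have hmap : (closure (a '' Set.Iio 3)).map σ = R.grp := by
    rw [MonoidHom.map_closure, Set.image_image, TwoRel.grp]
    simp only [ha]
  set H := closure (a '' Set.Iio 3) with hH
  let φ : H → R.grp := fun h => ⟨σ h.1, hmap ▸ Subgroup.mem_map_of_mem σ h.2⟩
  have hsurj : Function.Surjective φ := fun y => by
    obtain ⟨h, hh, e⟩ : (y : T) ∈ H.map σ := hmap.symm ▸ y.2
    exact ⟨⟨h, hh⟩, Subtype.ext e⟩
  have := hfin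
  have hge := R.le_card
  have hcard := Nat.card_le_card_of_surjective φ hsurj
  have hinj : Function.Injective φ :=
    ((Nat.bijective_iff_surjective_and_card φ).2 ⟨hsurj, by omega⟩).1
  refine ⟨?_, by omega⟩
  have hcomap : R.grp.comap σ = H ⊔ σ.ker := by rw [← hmap, Subgroup.comap_map_eq]
  rw [eq_bot_iff, hcomap]
  have hder : ⁅H ⊔ σ.ker, H ⊔ σ.ker⁆ ≤ H := by
    haveI : σ.ker.Normal := σ.normal_ker
    rw [Subgroup.commutator_le]
    intro p hp q hq
    rw [Subgroup.mem_sup_of_normal_right] at hp hq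
    obtain ⟨p, hp, z, hz, rfl⟩ := hp
    obtain ⟨q, hq, w, hw, rfl⟩ := hq
    rw [comm_mul_central (hc hz) (hc hw), commutatorElement_def]
    exact mul_mem (mul_mem (mul_mem hp hq) (inv_mem hp)) (inv_mem hq)
  rintro k ⟨hk, hk'⟩
  have : φ ⟨k, hder hk'⟩ = φ 1 := Subtype.ext (by
    show σ k = σ 1
    rw [MonoidHom.mem_ker.1 hk, map_one])
  exact Subgroup.mem_bot.2 (congrArg Subtype.val (hinj this))

end Cfsg.Agent.J3Mult75
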