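import Cfsg.Agent.J3Cert.Simple
import Cfsg.Agent.J3Mult75.ThreeCard
import Cfsg.Agent.J3Mult75.TwoLocal
import Cfsg.Agent.J3Mult75.Words

/-!
The local data inside 3·J₃ (helper75).
-/

set_option autoImplicit false
set_option maxRecDepth 100000

namespace Cfsg.Agent.J3Mult75

open Cfsg.Spor Cfsg.Agent.J3Cert Subgroup
open scoped commutatorElement

universe u

variable {F : Type u} [Field F] [Fintype F] {ω : F}

/-- A defining matrix as an element of the group. -/
noncomputable def six (h : Four F ω) (k : ℕ) : threeJ3 F ω :=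
  ⟨(coded_six h (Nat.mod_lt k (by norm_num : 6 > 0))).2.choose,
    (coded_six h (Nat.mod_lt k (by norm_num : 6 > 0))).2.choose_spec.1⟩

/-- The element given by a word. -/
noncomputable def el (h : Four F ω) (l : List ℕ) : threeJ3 F ω := ev (six h) l

/-- The code of a word. -/
def code (l : List ℕ) : List ℕ := wordCode (l.map (· % 6))

theorem el_append (h : Four F ω) (a b : List ℕ) : el h (a ++ b) = el h a * el h b := ev_append _ a b

theorem el_nil (h : Four F ω) : el h [] = 1 := rfl

theorem code_length : ∀ l : List ℕ, (code l).length = 9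
  | [] => rfl
  | _ :: l => (cmul_length _ _).trans (code_length l)

theorem el_mat (h : Four F ω) : ∀ l : List ℕ,
    ((el h l : GL F9 F) : Matrix F9 F9 F) = mat ω (code l)
  | [] => mat_oneMat.symm
  | k :: l => by
    have hk := coded_six h (Nat.mod_lt k (by norm_num : 6 > 0))
    show (((six h k * el h l : threeJ3 F ω) : GL F9 F) : Matrix F9 F9 F) = _
    rw [Subgroup.coe_mul, Units.val_mul, el_mat h l,
      show ((six h k : GL F9 F) : Matrix F9 F9 F) = mat ω (sixMat.getD (k % 6) []) from
        hk.2.choose_spec.2, ← h.mat_cmul hk.1 (code_length l)]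
    rfl

theorem el_eq (h : Four F ω) (a b : List ℕ) (e : eqMat (code a) (code b) = true) :
    el h a = el h b :=
  Subtype.ext (Units.ext (by rw [el_mat, el_mat, eq_of_eqMat e]))

theorem el_inv (h : Four F ω) (a b : List ℕ) (e : eqMat (code (a ++ b)) (code []) = true) :
    (el h a)⁻¹ = el h b :=
  inv_eq_of_mul_eq_one_right (by rw [← el_append, el_eq h _ _ e, el_nil])

theorem el_pow (h : Four F ω) (a : List ℕ) : ∀ n : ℕ,
    el h a ^ n = el h (List.replicate n a).flatten
  | 0 => (pow_zero _).trans (el_nil h).symm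
  | n + 1 => by rw [pow_succ', el_pow h a n, List.replicate_succ, List.flatten_cons, el_append]

theorem el_ne (h : Four F ω) {a b : List ℕ} {P Q : ℕ} (ha : eqMat (code a) (unpack P) = true)
    (hb : eqMat (code b) (unpack Q) = true) (hP : P < 2 ^ 162) (hQ : Q < 2 ^ 162)
    (e : el h a = el h b) : P = Q := by
  have e' := congrArg (fun g : threeJ3 F ω => ((g : GL F9 F) : Matrix F9 F9 F)) e
  simp only [el_mat] at e'
  rw [eq_of_eqMat ha, eq_of_eqMat hb] at e'
  exact unpack_injective hP hQ (h.mat_injective (unpack_length P) (unpack_length Q)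
    (fun c hc => unpack_bound hc) (fun c hc => unpack_bound hc) e')

theorem ev_el (h : Four F ω) (w : ℕ → List ℕ) : ∀ l : List ℕ,
    ev (fun g => el h (w g)) l = el h (l.flatMap w)
  | [] => rfl
  | g :: l => by rw [ev, ev_el h w l, List.flatMap_cons, el_append]

/-- The word of a translation commuted with a diagonal element. -/
def cW : List ℕ := [5, 0, 5, 5, 5, 5, 5, 5, 5, 5, 0, 0]

theorem cW_code : eqMat (code cW) ((oneMat.map mulW).map mulW) = true := by decide +kernel

theorem el_cW_central (h : Four F ω) (t : threeJ3 F ω) : t * el h cW = el h cW * t := by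
  have e1 : mat ω (oneMat.map mulW) = ω • (1 : Matrix F9 F9 F) := by
    rw [h.mat_map (M := ω • (1 : Matrix F9 F9 F)) rfl
      (fun c _ => by rw [h.vec_mulW]; simp [Matrix.smul_mulVec]), mat_oneMat, mul_one]
  have e2 : ((el h cW : GL F9 F) : Matrix F9 F9 F) = (ω * ω) • (1 : Matrix F9 F9 F) := by
    rw [el_mat, eq_of_eqMat cW_code,
      h.mat_map (M := ω • (1 : Matrix F9 F9 F)) (by rfl)
        (fun c _ => by rw [h.vec_mulW]; simp [Matrix.smul_mulVec]), e1, smul_mul_assoc, one_mul,
      smul_smul]
  apply Subtype.ext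
  apply Units.ext
  rw [Subgroup.coe_mul, Subgroup.coe_mul, Units.val_mul, Units.val_mul, e2, mul_smul_comm,
    smul_mul_assoc, mul_one, one_mul]

theorem cW_ne_one (h : Four F ω) : el h cW ≠ 1 := fun e => by
  have := el_ne h (a := cW) (b := []) (P := threeLit.getD 1 0) (Q := threeLit.getD 0 0)
    (by decide +kernel) (by decide +kernel) (by decide +kernel) (by decide +kernel)
    (e.trans (el_nil h).symm)
  exact absurd this (by decide +kernel)

/-- The word of the 81 products. -/
def prodW (e : Fin 3 × Fin 3 × Fin 3 × Fin 3) : List ℕ :=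
  (List.replicate e.1.val [1]).flatten ++ (List.replicate e.2.1.val [0]).flatten ++
    (List.replicate e.2.2.1.val [3, 3, 0, 3, 3, 3, 3, 3, 3]).flatten ++
    (List.replicate e.2.2.2.val cW).flatten

/-- The index of a product in the list of codes. -/
def prodIdx (e : Fin 3 × Fin 3 × Fin 3 × Fin 3) : ℕ :=
  27 * e.1.val + 9 * e.2.1.val + 3 * e.2.2.1.val + e.2.2.2.val

theorem prod_ok : ∀ a b c d : Fin 3,
    eqMat (code (prodW (a, b, c, d))) (unpack (threeLit.getD (prodIdx (a, b, c, d)) 0)) = true := by
  decide +kernel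

theorem threeLit_ok : threeLit.Nodup ∧ threeLit.length = 81 ∧
    threeLit.all (fun P => decide (P < 2 ^ 162)) = true := by decide +kernel

theorem getD_inj {l : List ℕ} (hl : l.Nodup) {i j : ℕ} (hi : i < l.length) (hj : j < l.length)
    (e : l.getD i 0 = l.getD j 0) : i = j := by
  rw [List.getD_eq_getElem _ _ hi, List.getD_eq_getElem _ _ hj] at e
  exact (hl.getElem_inj_iff).1 e

theorem getD_small {l : List ℕ} (hl : l.all (fun P => decide (P < 2 ^ 162)) = true) (i : ℕ) :
    l.getD i 0 < 2 ^ 162 := by
  rcases Nat.lt_or_ge i l.length with h | h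
  · rw [List.getD_eq_getElem _ _ h]
    simpa using List.all_eq_true.1 hl _ (List.getElem_mem h)
  · rw [List.getD_eq_default _ _ h]
    exact Nat.two_pow_pos 162

/-- The data at the prime three. -/
noncomputable def threeRel (h : Four F ω) : ThreeRel (threeJ3 F ω) where
  n := el h [1]
  L1 := el h [0]
  L2 := el h [3, 3, 0, 3, 3, 3, 3, 3, 3]
  c := el h cW
  D1 := el h [5]
  D2 := el h [3, 3, 5, 3, 3, 3, 3, 3, 3]
  g := el h [3]
  n3 := by rw [el_pow, el_eq h _ [] (by decide +kernel), el_nil]
  l13 := by rw [el_pow, el_eq h _ [] (by decide +kernel), el_nil]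
  c_central := el_cW_central h
  gn := by
    rw [el_inv h [3] (List.replicate 7 3) (by decide +kernel),
      el_inv h [1] [1, 1] (by decide +kernel), ← el_append, ← el_append]
    exact el_eq h _ _ (by decide +kernel)
  gl1 := by
    rw [el_inv h [3] (List.replicate 7 3) (by decide +kernel),
      el_inv h [0] [0, 0] (by decide +kernel), ← el_append, ← el_append, ← el_append]
    exact el_eq h _ _ (by decide +kernel)
  gl2 := by
    rw [el_inv h [3] (List.replicate 7 3) (by decide +kernel),
      el_inv h [0] [0, 0] (by decide +kernel),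
      el_inv h [3, 3, 0, 3, 3, 3, 3, 3, 3] [3, 3, 0, 0, 3, 3, 3, 3, 3, 3] (by decide +kernel),
      ← el_append, ← el_append, ← el_append]
    exact el_eq h _ _ (by decide +kernel)
  l2_def := by
    rw [el_pow, el_inv h (List.replicate 2 [3]).flatten (List.replicate 6 3) (by decide +kernel),
      ← el_append, ← el_append]
    exact el_eq h _ _ (by decide +kernel)
  d2_def := by
    rw [el_pow, el_inv h (List.replicate 2 [3]).flatten (List.replicate 6 3) (by decide +kernel),
      ← el_append, ← el_append]
    exact el_eq h _ _ (by decide +kernel)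
  ul1 := by
    rw [el_pow, el_inv h (List.replicate 4 [3]).flatten (List.replicate 4 3) (by decide +kernel),
      el_inv h [0] [0, 0] (by decide +kernel), ← el_append, ← el_append]
    exact el_eq h _ _ (by decide +kernel)
  ud1 := by
    rw [el_pow, el_inv h (List.replicate 4 [3]).flatten (List.replicate 4 3) (by decide +kernel),
      el_inv h [5] (List.replicate 8 5) (by decide +kernel), ← el_append, ← el_append]
    exact el_eq h _ _ (by decide +kernel)
  l1l2 := by
    rw [← el_append, ← el_append]
    exact el_eq h _ _ (by decide +kernel)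
  l1n := by
    rw [← el_append, ← el_append]
    exact el_eq h _ _ (by decide +kernel)
  d1l1 := by
    rw [commutatorElement_def, el_inv h [5] (List.replicate 8 5) (by decide +kernel),
      el_inv h [0] [0, 0] (by decide +kernel), ← el_append, ← el_append, ← el_append]
    exact el_eq h _ _ (by decide +kernel)
  d1l2 := by
    rw [commutatorElement_def, el_inv h [5] (List.replicate 8 5) (by decide +kernel),
      el_inv h [3, 3, 0, 3, 3, 3, 3, 3, 3] [3, 3, 0, 0, 3, 3, 3, 3, 3, 3] (by decide +kernel),
      ← el_append, ← el_append, ← el_append, ← el_nil h]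
    exact el_eq h _ _ (by decide +kernel)
  d1n := by
    rw [commutatorElement_def, el_inv h [5] (List.replicate 8 5) (by decide +kernel),
      el_inv h [1] [1, 1] (by decide +kernel), el_inv h cW (cW ++ cW) (by decide +kernel),
      ← el_append, ← el_append, ← el_append, ← el_append]
    exact el_eq h _ _ (by decide +kernel)
  d1d2 := by
    rw [commutatorElement_def, el_inv h [5] (List.replicate 8 5) (by decide +kernel),
      el_inv h [3, 3, 5, 3, 3, 3, 3, 3, 3] ([3, 3] ++ List.replicate 8 5 ++ List.replicate 6 3)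
        (by decide +kernel),
      el_inv h [0] [0, 0] (by decide +kernel),
      el_inv h [3, 3, 0, 3, 3, 3, 3, 3, 3] [3, 3, 0, 0, 3, 3, 3, 3, 3, 3] (by decide +kernel),
      ← el_append, ← el_append, ← el_append, ← el_append, ← el_append]
    exact el_eq h _ _ (by decide +kernel)
  gd1 := by
    rw [el_inv h [3] (List.replicate 7 3) (by decide +kernel),
      el_inv h [1] [1, 1] (by decide +kernel), el_inv h [0] [0, 0] (by decide +kernel),
      el_inv h [3, 3, 0, 3, 3, 3, 3, 3, 3] [3, 3, 0, 0, 3, 3, 3, 3, 3, 3] (by decide +kernel)]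
    simp only [← el_append]
    exact el_eq h _ _ (by decide +kernel)
  gd2 := by
    rw [el_inv h [3] (List.replicate 7 3) (by decide +kernel),
      el_inv h [3, 3, 0, 3, 3, 3, 3, 3, 3] [3, 3, 0, 0, 3, 3, 3, 3, 3, 3] (by decide +kernel)]
    simp only [← el_append]
    exact el_eq h _ _ (by decide +kernel)
  d1cube := by
    rw [el_pow,
      el_inv h [3, 3, 0, 3, 3, 3, 3, 3, 3] [3, 3, 0, 0, 3, 3, 3, 3, 3, 3] (by decide +kernel)]
    exact el_eq h _ _ (by decide +kernel)
  inj := by
    rintro ⟨a, b, c, d⟩ ⟨a', b', c', d'⟩ e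
    simp only [el_pow, ← el_append] at e
    have hlt : ∀ a b c d : Fin 3, prodIdx (a, b, c, d) < threeLit.length := fun a b c d => by
      rw [threeLit_ok.2.1]
      have := a.2; have := b.2; have := c.2; have := d.2
      simp only [prodIdx]; omega
    have e' := getD_inj threeLit_ok.1 (hlt a b c d) (hlt a' b' c' d')
      (el_ne h (prod_ok a b c d) (prod_ok a' b' c' d') (getD_small threeLit_ok.2.2 _)
        (getD_small threeLit_ok.2.2 _) e)
    simp only [prodIdx] at e'
    have := a.2; have := b.2; have := c.2; have := d.2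
    have := a'.2; have := b'.2; have := c'.2; have := d'.2
    simp only [Prod.mk.injEq, Fin.ext_iff]
    omega

theorem twoLit_ok : twoLit.Nodup ∧ twoLit.length = 128 ∧
    twoLit.all (fun P => decide (P < 2 ^ 162)) = true := by decide +kernel

theorem two_reps : ∀ i < 128,
    eqMat (code ((repW i).flatMap xW)) (unpack (twoLit.getD i 0)) = true := by decide +kernel

/-- The data at the prime two. -/
noncomputable def twoRel (h : Four F ω) : TwoRel (threeJ3 F ω) where
  x g := el h (xW g)
  t := el h [3, 3, 3, 3]
  invol g hg := by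
    rw [el_pow, ← el_nil h]
    interval_cases g <;> exact el_eq h _ _ (by decide +kernel)
  prod_invol := by
    rw [← el_append, el_pow, ← el_nil h]
    exact el_eq h _ _ (by decide +kernel)
  conj_gen g hg := by
    interval_cases g
    · exact ⟨el h cx0W, by rw [← el_append, ← el_append]; exact el_eq h _ _ (by decide +kernel)⟩
    · exact ⟨el h cx1W, by rw [← el_append, ← el_append]; exact el_eq h _ _ (by decide +kernel)⟩
    · exact ⟨el h cx2W, by rw [← el_append, ← el_append]; exact el_eq h _ _ (by decide +kernel)⟩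
  conj_prod := ⟨el h cx12W, by
    rw [← el_append, ← el_append, ← el_append]; exact el_eq h _ _ (by decide +kernel)⟩
  odd12 := by
    refine ⟨el h y00W, el h y01W, 5, 5, ⟨2, rfl⟩, ⟨2, rfl⟩, ?_, ?_, ?_, ?_, ?_⟩ <;>
      simp only [el_pow, ← el_append, ← el_nil h] <;> exact el_eq h _ _ (by decide +kernel)
  odd0 w hw := by
    simp only [List.mem_cons, List.not_mem_nil, or_false] at hw
    rcases hw with rfl | rfl
    · refine ⟨el h y10W, el h y11W, 3, 15, ⟨1, rfl⟩, ⟨7, rfl⟩, ?_, ?_, ?_, ?_, ?_⟩ <;>
        simp only [ev_el, el_pow, ← el_append, ← el_nil h] <;>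
        exact el_eq h _ _ (by decide +kernel)
    · refine ⟨el h y20W, el h y21W, 15, 15, ⟨7, rfl⟩, ⟨7, rfl⟩, ?_, ?_, ?_, ?_, ?_⟩ <;>
        simp only [ev_el, el_pow, ← el_append, ← el_nil h] <;>
        exact el_eq h _ _ (by decide +kernel)
  inj := by
    intro i hi j hj e
    simp only [ev_el] at e
    exact getD_inj twoLit_ok.1 (twoLit_ok.2.1.symm ▸ hi) (twoLit_ok.2.1.symm ▸ hj)
      (el_ne h (two_reps i hi) (two_reps j hj) (getD_small twoLit_ok.2.2 _)
        (getD_small twoLit_ok.2.2 _) e)

end Cfsg.Agent.J3Mult75
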