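import Cfsg.Agent.J3Mult75.Concrete
import Cfsg.Agent.KnownSimple.Multiplier.Sylow

/-!
The multiplier of 3·J₃ is trivial, and so that of J₃ is cyclic of order three (helper75).
-/

set_option autoImplicit false

namespace Cfsg.Agent.J3Mult75

open Cfsg.Spor Cfsg.Agent.J3Cert Subgroup
open scoped commutatorElement

universe u

variable {F : Type u} [Field F] [Fintype F] {ω : F}

theorem J3_perfect (h : Four F ω) (hF : Fintype.card F = 4) : Group.IsPerfect (J3 F ω) := by
  haveI := simple_J3 h hF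
  refine ⟨?_⟩
  haveI : (commutator (J3 F ω)).Normal := inferInstance
  rcases IsSimpleGroup.eq_bot_or_eq_top_of_normal (commutator (J3 F ω)) inferInstance with e | e
  · exfalso
    have hc := center_J3 h hF
    rw [commutator_eq_bot_iff_center_eq_top, hc] at e
    exact bot_ne_top e
  · exact e

theorem center_le_commutator (h : Four F ω) (hF : Fintype.card F = 4) :
    center (threeJ3 F ω) ≤ commutator (threeJ3 F ω) := by
  haveI : Finite (threeJ3 F ω) :=
    Nat.finite_of_card_ne_zero (by rw [card_threeJ3 h]; norm_num)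
  have hle : zpowers (el h cW) ≤ center (threeJ3 F ω) :=
    zpowers_le.2 (mem_center_iff.2 (el_cW_central h))
  have hdvd := Subgroup.card_dvd_of_le hle
  rw [card_center h hF] at hdvd
  have hne : Nat.card (zpowers (el h cW)) ≠ 1 := fun e =>
    cW_ne_one h (zpowers_eq_bot.1 (Subgroup.card_eq_one.1 e))
  have heq : zpowers (el h cW) = center (threeJ3 F ω) :=
    Subgroup.eq_of_le_of_card_ge hle (le_of_eq (by
      rw [card_center h hF]
      exact (((Nat.prime_three.eq_one_or_self_of_dvd _ hdvd).resolve_left hne)).symm))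
  rw [← heq, zpowers_le, show el h cW = (threeRel h).c from rfl, ← (threeRel h).d1l1]
  exact commutator_mem_commutator (mem_top _) (mem_top _)

theorem threeJ3_perfect (h : Four F ω) (hF : Fintype.card F = 4) :
    Group.IsPerfect (threeJ3 F ω) := by
  refine ⟨eq_top_iff.2 fun x _ => ?_⟩
  have hm : (commutator (threeJ3 F ω)).map (QuotientGroup.mk' (center (threeJ3 F ω))) =
      commutator (J3 F ω) := by
    rw [_root_.commutator_def, map_commutator,
      Subgroup.map_top_of_surjective _ (QuotientGroup.mk'_surjective _), _root_.commutator_def]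
  obtain ⟨y, hy, e⟩ : QuotientGroup.mk' (center (threeJ3 F ω)) x ∈
      (commutator (threeJ3 F ω)).map (QuotientGroup.mk' (center (threeJ3 F ω))) := by
    rw [hm]; exact Group.IsPerfect.mem_commutator (hP := J3_perfect h hF)
  rw [show x = y * (y⁻¹ * x) by group]
  exact mul_mem hy (center_le_commutator h hF ((QuotientGroup.eq).1 e))

theorem threeJ3_stem_trivial (h : Four F ω) (hF : Fintype.card F = 4) {Γ : Type u} [Group Γ]
    [Finite Γ] (σ : Γ →* threeJ3 F ω) (hσ : Cfsg.IsStemExtension σ) : σ.ker = ⊥ := by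
  haveI : Finite (threeJ3 F ω) :=
    Nat.finite_of_card_ne_zero (by rw [card_threeJ3 h]; norm_num)
  refine ker_eq_bot_of_prime (fun Δ _ _ τ hτ hp => ?_) σ hσ
  have hpow : ∀ z, τ z = 1 → z ^ Nat.card τ.ker = 1 := fun z hz =>
    congrArg Subtype.val (pow_card_eq_one' (G := τ.ker) (x := ⟨z, MonoidHom.mem_ker.2 hz⟩))
  generalize hℓ : Nat.card τ.ker = ℓ at hp hpow ⊢
  haveI := Fact.mk hp
  by_cases h2 : ℓ = 2
  · subst h2
    obtain ⟨h1, hc⟩ := two_local τ hτ hpow (twoRel h)
    refine ⟨(twoRel h).grp, ?_, h1⟩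
    have e := Subgroup.card_mul_index (twoRel h).grp
    rw [hc, card_threeJ3 h] at e
    omega
  by_cases h3 : ℓ = 3
  · subst h3
    have hE := Cfsg.Agent.Schur.isPerfect_of_stem (threeJ3_perfect h hF) τ hτ
    obtain ⟨h1, hex⟩ := three_local τ hτ hE hpow (threeRel h)
    refine ⟨(threeRel h).grp, ?_, h1⟩
    have hP : IsPGroup 3 (threeRel h).grp := fun g =>
      ⟨3, Subtype.ext (by rw [show (3 : ℕ) ^ 3 = 27 from rfl]; exact hex g.1 g.2)⟩
    obtain ⟨k, hk⟩ := hP.exists_card_eq
    have hle := (threeRel h).card_le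
    have h6 : 6 ≤ k := by
      by_contra hlt
      have : 3 ^ k ≤ 3 ^ 5 := Nat.pow_le_pow_right (by norm_num) (by omega)
      omega
    intro hd
    have e := Subgroup.card_mul_index (threeRel h).grp
    rw [card_threeJ3 h, hk] at e
    have : 3 ^ 7 ∣ 150698880 := e ▸ mul_dvd_mul (pow_dvd_pow 3 h6) hd
    norm_num at this
  by_cases hd : ℓ ∣ 150698880
  · obtain ⟨x, hx⟩ := exists_prime_orderOf_dvd_card' (G := threeJ3 F ω) ℓ
      (by rwa [card_threeJ3 h])
    refine ⟨zpowers x, ?_, KnownSimple.inf_commutator_eq_bot_of_comm τ _ fun a ha b hb =>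
      KnownSimple.comm_of_cyclic τ hτ.2.1 _ hτ.1 ha hb⟩
    intro hi
    have e := Subgroup.card_mul_index (zpowers x)
    rw [Nat.card_zpowers, hx, card_threeJ3 h] at e
    have hsq : ℓ * ℓ ∣ 150698880 := e ▸ mul_dvd_mul_left ℓ hi
    have hfac : ℓ ∣ 2 ^ 7 * 3 ^ 6 * 5 * 17 * 19 := by norm_num; exact hd
    have hlist : ℓ = 5 ∨ ℓ = 17 ∨ ℓ = 19 := by
      have h' : ∀ {q : ℕ}, q.Prime → ℓ ∣ q → ℓ = q := fun hq hd => (Nat.prime_dvd_prime_iff_eq hp hq).1 hd
      rcases (Nat.Prime.dvd_mul hp).1 hfac with hd | hd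
      · rcases (Nat.Prime.dvd_mul hp).1 hd with hd | hd
        · rcases (Nat.Prime.dvd_mul hp).1 hd with hd | hd
          · rcases (Nat.Prime.dvd_mul hp).1 hd with hd | hd
            · exact absurd (h' Nat.prime_two (hp.dvd_of_dvd_pow hd)) h2
            · exact absurd (h' Nat.prime_three (hp.dvd_of_dvd_pow hd)) h3
          · exact Or.inl (h' (by norm_num) hd)
        · exact Or.inr (Or.inl (h' (by norm_num) hd))
      · exact Or.inr (Or.inr (h' (by norm_num) hd))
    rcases hlist with rfl | rfl | rfl <;> norm_num at hsq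
  · refine ⟨⊥, ?_, KnownSimple.inf_commutator_eq_bot_of_comm τ _ fun a ha b hb => ?_⟩
    · rwa [Subgroup.index_bot, card_threeJ3 h]
    · rw [commutatorElement_eq_one_iff_mul_comm]
      exact central_comm (hτ.2.1 (MonoidHom.mem_ker.2 (mem_bot.1 hb))) a

theorem threeJ3_trivial (h : Four F ω) (hF : Fintype.card F = 4) :
    Cfsg.HasCyclicSchurMultiplier (threeJ3 F ω) 1 := by
  haveI : Finite (threeJ3 F ω) :=
    Nat.finite_of_card_ne_zero (by rw [card_threeJ3 h]; norm_num)
  refine ⟨⟨threeJ3 F ω, inferInstance, inferInstance, MonoidHom.id _,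
    ⟨Function.surjective_id, ?_, ?_⟩, ⟨?_⟩⟩, fun Γ _ _ σ hσ => ?_⟩
  · intro x hx
    rw [show x = 1 from hx]
    exact one_mem _
  · intro x hx
    rw [show x = 1 from hx]
    exact one_mem _
  · haveI : Subsingleton (MonoidHom.id (threeJ3 F ω)).ker :=
      ⟨fun a b => Subtype.ext ((show a.1 = 1 from a.2).trans (show b.1 = 1 from b.2).symm)⟩
    haveI : Subsingleton (Multiplicative (ZMod 1)) := Multiplicative.toAdd.injective.subsingleton
    exact
      { toFun := fun _ => 1
        invFun := fun _ => 1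
        left_inv := fun _ => Subsingleton.elim _ _
        right_inv := fun _ => Subsingleton.elim _ _
        map_mul' := fun _ _ => (one_mul 1).symm }
  · have hbot := threeJ3_stem_trivial h hF σ hσ
    exact ⟨1, fun z => ⟨1, Subtype.ext ((Subgroup.mem_bot.1 (hbot ▸ z.2)).symm)⟩⟩

theorem J3_multiplier (h : Four F ω) (hF : Fintype.card F = 4) :
    Cfsg.HasCyclicSchurMultiplier (J3 F ω) 3 := by
  haveI : Finite (threeJ3 F ω) :=
    Nat.finite_of_card_ne_zero (by rw [card_threeJ3 h]; norm_num)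
  have hker : (QuotientGroup.mk' (center (threeJ3 F ω))).ker = center (threeJ3 F ω) :=
    QuotientGroup.ker_mk' _
  haveI : Fact (Nat.Prime 3) := ⟨Nat.prime_three⟩
  have hc3 := card_center h hF
  haveI : IsCyclic (center (threeJ3 F ω)) := isCyclic_of_prime_card hc3
  let e : Multiplicative (ZMod 3) ≃* center (threeJ3 F ω) := by
    have := zmodCyclicMulEquiv (G := center (threeJ3 F ω)) inferInstance
    rwa [hc3] at this
  refine ⟨⟨threeJ3 F ω, inferInstance, inferInstance, QuotientGroup.mk' _,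
    ⟨QuotientGroup.mk'_surjective _, hker.le, hker.le.trans (center_le_commutator h hF)⟩,
    ⟨(MulEquiv.subgroupCongr hker).trans e.symm⟩⟩, fun Γ _ _ σ hσ => ?_⟩
  have hJ := J3_perfect h hF
  have hΓ := Cfsg.Agent.Schur.isPerfect_of_stem hJ σ hσ
  obtain ⟨η, hη⟩ := Cfsg.Agent.Schur.exists_lift_of_trivial (threeJ3_perfect h hF)
    (threeJ3_trivial h hF) (QuotientGroup.mk' (center (threeJ3 F ω))) σ hσ.1 hσ.2.1
  -- the lift is surjective, as the extension is perfect
  have hsurj : Function.Surjective η := by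
    have hcov : ∀ x : Γ, ∃ t z, z ∈ center Γ ∧ x = η t * z := fun x => by
      obtain ⟨t, ht⟩ := QuotientGroup.mk'_surjective (center (threeJ3 F ω)) (σ x)
      obtain ⟨z, hz, e⟩ := exists_ker_mul σ (x := x) (y := η t)
        (by rw [← ht, ← hη]; rfl)
      exact ⟨t, z, mem_center_of_ker hσ.2.1 hz, e⟩
    have hle : commutator Γ ≤ η.range := by
      rw [_root_.commutator_def, Subgroup.commutator_le]
      intro a _ b _
      obtain ⟨s, z, hz, rfl⟩ := hcov a
      obtain ⟨t, w, hw, rfl⟩ := hcov b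
      rw [comm_mul_central hz hw, ← map_commutatorElement]
      exact ⟨_, rfl⟩
    exact fun x => hle (Group.IsPerfect.mem_commutator (hP := hΓ))
  have hmem : ∀ z : center (threeJ3 F ω), η z.1 ∈ σ.ker := fun z => by
    rw [MonoidHom.mem_ker]
    show (σ.comp η) z.1 = 1
    rw [hη]
    exact (QuotientGroup.eq_one_iff _).2 z.2
  let ψ : center (threeJ3 F ω) →* σ.ker :=
    (η.comp (center (threeJ3 F ω)).subtype).codRestrict σ.ker hmem
  refine ⟨ψ.comp e.toMonoidHom, ?_⟩
  rintro ⟨k, hk⟩
  obtain ⟨t, rfl⟩ := hsurj k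
  have ht : t ∈ center (threeJ3 F ω) := by
    rw [← QuotientGroup.eq_one_iff]
    show QuotientGroup.mk' (center (threeJ3 F ω)) t = 1
    rw [← hη]
    exact hk
  obtain ⟨y, hy⟩ := e.surjective ⟨t, ht⟩
  refine ⟨y, Subtype.ext ?_⟩
  show η (e y).1 = η t
  rw [hy]

end Cfsg.Agent.J3Mult75
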