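import Cfsg.Agent.J3Mult75.Basic

/-!
The prime three in the multiplier of 3·J₃ (helper75): a Sylow 3-subgroup of order 729, inverted
piecewise by an element of order eight.
-/

set_option autoImplicit false

namespace Cfsg.Agent.J3Mult75

open Subgroup
open scoped commutatorElement

universe u v

/-- The relations needed at the prime three. -/
structure ThreeRel (T : Type v) [Group T] where
  n : T
  L1 : T
  L2 : T
  c : T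
  D1 : T
  D2 : T
  g : T
  n3 : n ^ 3 = 1
  l13 : L1 ^ 3 = 1
  c_central : ∀ t, t * c = c * t
  gn : g * n * g⁻¹ = n⁻¹
  gl1 : g * L1 * g⁻¹ = L1⁻¹ * L2
  gl2 : g * L2 * g⁻¹ = L1⁻¹ * L2⁻¹
  l2_def : g ^ 2 * L1 * (g ^ 2)⁻¹ = L2
  d2_def : g ^ 2 * D1 * (g ^ 2)⁻¹ = D2
  ul1 : g ^ 4 * L1 * (g ^ 4)⁻¹ = L1⁻¹
  ud1 : g ^ 4 * D1 * (g ^ 4)⁻¹ = D1⁻¹
  l1l2 : L1 * L2 = L2 * L1
  l1n : L1 * n = n * L1
  d1l1 : ⁅D1, L1⁆ = c
  d1l2 : ⁅D1, L2⁆ = 1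
  d1n : ⁅D1, n⁆ = L1 * c⁻¹
  d1d2 : ⁅D1, D2⁆ = n * L1⁻¹ * L2⁻¹
  gd1 : g * D1 * g⁻¹ = D1 * D2 * D2 * (n⁻¹ * L1⁻¹ * L2⁻¹)
  gd2 : g * D2 * g⁻¹ = D1 * D2 * (n * L2⁻¹)
  d1cube : D1 ^ 3 = L2⁻¹
  inj : Function.Injective fun e : Fin 3 × Fin 3 × Fin 3 × Fin 3 =>
    n ^ e.1.val * L1 ^ e.2.1.val * L2 ^ e.2.2.1.val * c ^ e.2.2.2.val

variable {E : Type u} [Group E] {T : Type v} [Group T]

/-- An exact lift, inverted by a given lift, of an element inverted in the quotient. -/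
theorem exists_inverted_lift (σ : E →* T) (hc : σ.ker ≤ center E) (hs : Function.Surjective σ)
    (h3 : ∀ z, σ z = 1 → z ^ 3 = 1) (a : E) {x : T} (h : σ a * x * (σ a)⁻¹ = x⁻¹) :
    ∃ y, σ y = x ∧ a * y * a⁻¹ = y⁻¹ := by
  obtain ⟨x, rfl⟩ := hs x
  obtain ⟨k, hk, e⟩ := exists_ker_mul σ (x := a * x * a⁻¹) (y := x⁻¹)
    (by rw [map_mul, map_mul, map_inv, map_inv, h])
  have hkc := central_comm (mem_center_of_ker hc hk)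
  refine ⟨x * k, by rw [map_mul, hk, mul_one], ?_⟩
  have hk3 : k ^ 2 = k⁻¹ := eq_inv_of_mul_eq_one_left (by rw [← pow_succ, h3 k hk])
  calc a * (x * k) * a⁻¹ = a * x * (k * a⁻¹) := by group
    _ = a * x * a⁻¹ * k := by rw [← hkc a⁻¹]; group
    _ = x⁻¹ * k ^ 2 := by rw [e, pow_two]; group
    _ = x⁻¹ * k⁻¹ := by rw [hk3]
    _ = (x * k)⁻¹ := by rw [← mul_inv_rev, hkc x]

theorem cube_eq_one_of_inverted (σ : E →* T) (hc : σ.ker ≤ center E)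
    (h3 : ∀ z, σ z = 1 → z ^ 3 = 1) {a y : E} (h : a * y * a⁻¹ = y⁻¹) (hy : σ y ^ 3 = 1) :
    y ^ 3 = 1 := by
  have hz : σ (y ^ 3) = 1 := by rw [map_pow, hy]
  have e : y ^ 3 = (y ^ 3)⁻¹ := by
    calc y ^ 3 = a * y ^ 3 * a⁻¹ := (conj_central (mem_center_of_ker hc hz) a).symm
      _ = (y ^ 3)⁻¹ := by rw [← conj_pow, h, inv_pow]
  have h2 : (y ^ 3) ^ 2 = 1 := by rw [pow_two]; nth_rw 2 [e]; exact mul_inv_cancel _
  have := h3 _ hz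
  rwa [pow_succ, h2, one_mul] at this

theorem eq_one_of_sq_cube {k : E} (h2 : k * k = 1) (h3 : k ^ 3 = 1) : k = 1 := by
  rwa [pow_succ, pow_two, h2, one_mul] at h3

theorem conj_commutator (a x y : E) : a * ⁅x, y⁆ * a⁻¹ = ⁅a * x * a⁻¹, a * y * a⁻¹⁆ := by
  simp only [commutatorElement_def]; group

theorem comm_mul_right_of_central {x y z : E} (h : ⁅x, z⁆ ∈ center E) :
    ⁅x, y * z⁆ = ⁅x, y⁆ * ⁅x, z⁆ := by
  have e : ⁅x, y * z⁆ = ⁅x, y⁆ * (y * ⁅x, z⁆ * y⁻¹) := by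
    simp only [commutatorElement_def]; group
  rw [e, conj_central h]

theorem comm_mul_left_of_central {x y z : E} (h : ⁅y, z⁆ ∈ center E) :
    ⁅x * y, z⁆ = ⁅y, z⁆ * ⁅x, z⁆ := by
  have e : ⁅x * y, z⁆ = (x * ⁅y, z⁆ * x⁻¹) * ⁅x, z⁆ := by
    simp only [commutatorElement_def]; group
  rw [e, conj_central h]

theorem comm_inv_right_of_central {x y : E} (h : ⁅x, y⁆ ∈ center E) :
    ⁅x, y⁻¹⁆ = ⁅x, y⁆⁻¹ := by
  have e : ⁅x, y⁻¹⁆ = y⁻¹ * ⁅x, y⁆⁻¹ * y⁻¹⁻¹ := by simp only [commutatorElement_def]; group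
  rw [e, conj_central (inv_mem h)]

theorem comm_inv_left_of_central {x y : E} (h : ⁅x, y⁆ ∈ center E) :
    ⁅x⁻¹, y⁆ = ⁅x, y⁆⁻¹ := by
  have e : ⁅x⁻¹, y⁆ = x⁻¹ * ⁅x, y⁆⁻¹ * x⁻¹⁻¹ := by simp only [commutatorElement_def]; group
  rw [e, conj_central (inv_mem h)]

end Cfsg.Agent.J3Mult75
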