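import Cfsg.Agent.J3Mult75.Three

/-!
The Sylow 3-subgroup of 3·J₃ splits off every central extension by a group of order three (helper75).
-/

set_option autoImplicit false

namespace Cfsg.Agent.J3Mult75

open Subgroup
open scoped commutatorElement

universe u v

variable {E : Type u} [Group E] {T : Type v} [Group T]

theorem mem_normalizer_of_finite [Finite E] (P : Subgroup E) {x : E}
    (h : ∀ y ∈ P, x * y * x⁻¹ ∈ P) : x ∈ normalizer (P : Set E) := by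
  have hinj : Set.MapsTo (fun y => x * y * x⁻¹) (P : Set E) P := h
  rw [mem_normalizer_iff]
  intro y
  refine ⟨h y, fun hy => ?_⟩
  obtain ⟨w, hw, e⟩ := ((Set.toFinite (P : Set E)).injOn_iff_bijOn_of_mapsTo hinj).1
    (fun a _ b _ e => by simpa using e) |>.surjOn hy
  have : w = y := by simpa using e
  exact this ▸ hw

/-- The vocabulary of the subgroup of order 729. -/
def ThreeRel.grp (R : ThreeRel T) : Subgroup T :=
  closure {R.n, R.L1, R.L2, R.c, R.D1, R.D2}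

theorem exists_exponents {n a b c : E} (hn : n ^ 3 = 1) (ha : a ^ 3 = 1) (hb : b ^ 3 = 1)
    (hc : c ^ 3 = 1) (hcomm : ({n, a, b, c} : Set E).Pairwise Commute) {x : E}
    (hx : x ∈ closure ({n, a, b, c} : Set E)) :
    x ^ 3 = 1 ∧ ∃ e : Fin 3 × Fin 3 × Fin 3 × Fin 3,
      x = n ^ e.1.val * a ^ e.2.1.val * b ^ e.2.2.1.val * c ^ e.2.2.2.val := by
  have hC : ∀ p ∈ ({n, a, b, c} : Set E), ∀ q ∈ ({n, a, b, c} : Set E), Commute p q := by
    intro p hp q hq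
    by_cases e : p = q
    · exact e ▸ Commute.refl p
    · exact hcomm hp hq e
  have hna : Commute n a := hC _ (by simp) _ (by simp)
  have hnb : Commute n b := hC _ (by simp) _ (by simp)
  have hnc : Commute n c := hC _ (by simp) _ (by simp)
  have hab : Commute a b := hC _ (by simp) _ (by simp)
  have hac : Commute a c := hC _ (by simp) _ (by simp)
  have hbc : Commute b c := hC _ (by simp) _ (by simp)
  have hf : ∀ i j k l : ℕ, (n ^ i * a ^ j * b ^ k * c ^ l) ^ 3 = 1 := by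
    intro i j k l
    rw [Commute.mul_pow, Commute.mul_pow, Commute.mul_pow, ← pow_mul, ← pow_mul, ← pow_mul,
      ← pow_mul, mul_comm i, mul_comm j, mul_comm k, mul_comm l, pow_mul, pow_mul, pow_mul,
      pow_mul, hn, ha, hb, hc]
    · simp
    · exact hna.pow_pow i j
    · exact (hnb.pow_pow i k).mul_left (hab.pow_pow j k)
    · exact ((hnc.pow_pow i l).mul_left (hac.pow_pow j l)).mul_left (hbc.pow_pow k l)
  have key : ∃ i j k l : ℕ, x = n ^ i * a ^ j * b ^ k * c ^ l := by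
    induction hx using closure_induction with
    | mem y hy =>
      rcases hy with rfl | rfl | rfl | rfl
      · exact ⟨1, 0, 0, 0, by simp⟩
      · exact ⟨0, 1, 0, 0, by simp⟩
      · exact ⟨0, 0, 1, 0, by simp⟩
      · exact ⟨0, 0, 0, 1, by simp⟩
    | one => exact ⟨0, 0, 0, 0, by simp⟩
    | mul y z _ _ hy hz =>
      obtain ⟨i, j, k, l, rfl⟩ := hy
      obtain ⟨i', j', k', l', rfl⟩ := hz
      refine ⟨i + i', j + j', k + k', l + l', ?_⟩
      have m1 : Commute (c ^ l) (n ^ i' * a ^ j' * b ^ k') :=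
        (((hnc.pow_pow i' l).symm).mul_right ((hac.pow_pow j' l).symm)).mul_right
          ((hbc.pow_pow k' l).symm)
      have m2 : Commute (b ^ k) (n ^ i' * a ^ j') :=
        ((hnb.pow_pow i' k).symm).mul_right ((hab.pow_pow j' k).symm)
      rw [mul_assoc (n ^ i * a ^ j * b ^ k), ← mul_assoc (c ^ l), m1.eq, mul_assoc _ (c ^ l),
        ← pow_add, ← mul_assoc, ← mul_assoc (n ^ i * a ^ j * b ^ k), mul_assoc (n ^ i * a ^ j),
        m2.eq, ← mul_assoc, mul_assoc _ (b ^ k), ← pow_add, ← mul_assoc,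
        mul_assoc (n ^ i), ((hna.pow_pow i' j).symm).eq, ← mul_assoc, ← pow_add,
        mul_assoc _ (a ^ j), ← pow_add]
    | inv y _ hy =>
      obtain ⟨i, j, k, l, rfl⟩ := hy
      refine ⟨2 * i, 2 * j, 2 * k, 2 * l, ?_⟩
      rw [inv_eq_of_mul_eq_one_right (show (n ^ i * a ^ j * b ^ k * c ^ l) *
        (n ^ i * a ^ j * b ^ k * c ^ l) ^ 2 = 1 by rw [← pow_succ', hf])]
      rw [Commute.mul_pow, Commute.mul_pow, Commute.mul_pow, ← pow_mul, ← pow_mul, ← pow_mul,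
        ← pow_mul, mul_comm i, mul_comm j, mul_comm k, mul_comm l]
      · exact hna.pow_pow i j
      · exact (hnb.pow_pow i k).mul_left (hab.pow_pow j k)
      · exact ((hnc.pow_pow i l).mul_left (hac.pow_pow j l)).mul_left (hbc.pow_pow k l)
  obtain ⟨i, j, k, l, rfl⟩ := key
  refine ⟨hf i j k l, ⟨⟨i % 3, by omega⟩, ⟨j % 3, by omega⟩, ⟨k % 3, by omega⟩, ⟨l % 3, by omega⟩⟩, ?_⟩
  rw [← pow_eq_pow_mod i hn, ← pow_eq_pow_mod j ha, ← pow_eq_pow_mod k hb, ← pow_eq_pow_mod l hc]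

theorem three_local [Finite E] (σ : E →* T) (hσ : Cfsg.IsStemExtension σ) (hE : Group.IsPerfect E)
    (h3 : ∀ z, σ z = 1 → z ^ 3 = 1) (R : ThreeRel T) :
    σ.ker ⊓ ⁅R.grp.comap σ, R.grp.comap σ⁆ = ⊥ ∧ ∀ x ∈ R.grp, x ^ 27 = 1 := by
  obtain ⟨hs, hc, -⟩ := hσ
  have cen : ∀ {z : E}, σ z = 1 → z ∈ center E := fun h => mem_center_of_ker hc h
  obtain ⟨g, hg⟩ := hs R.g
  obtain ⟨n, hn, gn⟩ := exists_inverted_lift σ hc hs h3 g (x := R.n) (by rw [hg, R.gn])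
  obtain ⟨l1, hl1, ul1⟩ := exists_inverted_lift σ hc hs h3 (g ^ 4) (x := R.L1)
    (by rw [map_pow, hg, R.ul1])
  obtain ⟨d1, hd1, ud1⟩ := exists_inverted_lift σ hc hs h3 (g ^ 4) (x := R.D1)
    (by rw [map_pow, hg, R.ud1])
  obtain ⟨l2, hl2def⟩ : ∃ x, x = g ^ 2 * l1 * (g ^ 2)⁻¹ := ⟨_, rfl⟩
  obtain ⟨d2, hd2def⟩ : ∃ x, x = g ^ 2 * d1 * (g ^ 2)⁻¹ := ⟨_, rfl⟩
  have hl2 : σ l2 = R.L2 := by rw [hl2def]; simp [hg, hl1, R.l2_def]
  have hd2 : σ d2 = R.D2 := by rw [hd2def]; simp [hg, hd1, R.d2_def]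
  have sq_one : ∀ {k : E}, σ k = 1 → k * k = 1 → k = 1 := fun hk h => eq_one_of_sq_cube h (h3 _ hk)
  have g2n : g ^ 2 * n * (g ^ 2)⁻¹ = n := by
    have e : g ^ 2 * n * (g ^ 2)⁻¹ = g * (g * n * g⁻¹) * g⁻¹ := by
      rw [pow_two, mul_inv_rev]; simp only [mul_assoc]
    rw [e, gn, ← conj_inv, gn, inv_inv]
  have un : g ^ 4 * n * (g ^ 4)⁻¹ = n := by
    have e : g ^ 4 * n * (g ^ 4)⁻¹ = g ^ 2 * (g ^ 2 * n * (g ^ 2)⁻¹) * (g ^ 2)⁻¹ := by
      rw [show 4 = 2 + 2 from rfl, pow_add, mul_inv_rev]; simp only [mul_assoc]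
    rw [e, g2n, g2n]
  have ul2 : g ^ 4 * l2 * (g ^ 4)⁻¹ = l2⁻¹ := by
    calc g ^ 4 * l2 * (g ^ 4)⁻¹ = g ^ 2 * (g ^ 4 * l1 * (g ^ 4)⁻¹) * (g ^ 2)⁻¹ := by
          rw [hl2def]; group
      _ = l2⁻¹ := by rw [ul1, hl2def]; group
  have g2l2 : g ^ 2 * l2 * (g ^ 2)⁻¹ = l1⁻¹ := by
    rw [← ul1, hl2def]; group
  have hn3 : n ^ 3 = 1 := cube_eq_one_of_inverted σ hc h3 gn (by rw [hn, R.n3])
  have hl13 : l1 ^ 3 = 1 := cube_eq_one_of_inverted σ hc h3 ul1 (by rw [hl1, R.l13])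
  have hl23 : l2 ^ 3 = 1 := by rw [hl2def, conj_pow, hl13]; group
  set c := ⁅d1, l1⁆ with hcdef
  have hcT : σ c = R.c := by rw [hcdef, map_commutatorElement, hd1, hl1, R.d1l1]
  have hcc : c ∈ center E := mem_center_of_image σ hc hE (by rw [hcT]; exact R.c_central)
  have hc3 : c ^ 3 = 1 := by
    have h1 : ⁅d1, l1 * l1⁆ = c * c := comm_mul_right_of_central hcc
    have h2 : ⁅d1, l1 * l1 * l1⁆ = c * c * c := by rw [comm_mul_right_of_central hcc, h1]
    rw [show l1 * l1 * l1 = l1 ^ 3 by simp [pow_succ], hl13, commutatorElement_one_right] at h2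
    rw [show c ^ 3 = c * c * c by simp [pow_succ], ← h2]
  -- the elementary abelian subgroup
  have kl : ⁅l1, l2⁆ = 1 := by
    have hk : σ ⁅l1, l2⁆ = 1 := by
      rw [map_commutatorElement, hl1, hl2, commutatorElement_eq_one_iff_mul_comm.2 R.l1l2]
    obtain ⟨z1, hz1, e1⟩ := exists_ker_mul σ (x := g * l1 * g⁻¹) (y := l1⁻¹ * l2)
      (by simp [hg, hl1, hl2, R.gl1])
    obtain ⟨z2, hz2, e2⟩ := exists_ker_mul σ (x := g * l2 * g⁻¹) (y := l1⁻¹ * l2⁻¹)
      (by simp [hg, hl1, hl2, R.gl2])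
    have hkc := cen hk
    have hk21 : ⁅l2, l1⁆ ∈ center E := by rw [← commutatorElement_inv]; exact inv_mem hkc
    have a1 : ⁅l2, l1⁻¹⁆ = ⁅l1, l2⁆ := by
      rw [comm_inv_right_of_central hk21, commutatorElement_inv]
    have a2 : ⁅l1⁻¹, l2⁻¹⁆ = ⁅l1, l2⁆ := by
      have h : ⁅l1⁻¹, l2⁆ = ⁅l1, l2⁆⁻¹ := comm_inv_left_of_central hkc
      rw [comm_inv_right_of_central (by rw [h]; exact inv_mem hkc), h, inv_inv]
    have s1 : ∀ x : E, ⁅x, x⁻¹⁆ = 1 := fun x => by simp [commutatorElement_def]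
    have b1 : ⁅l1⁻¹, l1⁻¹ * l2⁻¹⁆ = ⁅l1, l2⁆ := by
      rw [comm_mul_right_of_central (by rw [a2]; exact hkc), commutatorElement_self, one_mul, a2]
    have b2 : ⁅l2, l1⁻¹ * l2⁻¹⁆ = ⁅l1, l2⁆ := by
      rw [comm_mul_right_of_central (by rw [s1]; exact one_mem _), s1, mul_one, a1]
    have e := conj_commutator g l1 l2
    rw [conj_central hkc, e1, e2, comm_mul_central (cen hz1) (cen hz2),
      comm_mul_left_of_central (by rw [b2]; exact hkc), b1, b2] at e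
    exact mul_eq_left.1 e.symm
  have hl12 : Commute l1 l2 := commutatorElement_eq_one_iff_mul_comm.1 kl
  have kln : ⁅l1, n⁆ = 1 := by
    have hk : σ ⁅l1, n⁆ = 1 := by
      rw [map_commutatorElement, hl1, hn, commutatorElement_eq_one_iff_mul_comm.2 R.l1n]
    have e := conj_commutator (g ^ 4) l1 n
    rw [conj_central (cen hk), ul1, un, comm_inv_left_of_central (cen hk)] at e
    exact sq_one hk (mul_eq_one_iff_eq_inv.2 e)
  have hl1n : Commute l1 n := commutatorElement_eq_one_iff_mul_comm.1 kln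
  have hl2n : Commute l2 n := by
    have h := hl1n.map (MulAut.conj (g ^ 2)).toMonoidHom
    simp only [MulEquiv.coe_toMonoidHom, MulAut.conj_apply] at h
    rwa [← hl2def, g2n] at h
  have hcomm : ({n, l1, l2, c} : Set E).Pairwise Commute := by
    intro p hp q hq _
    rcases hp with rfl | rfl | rfl | rfl <;> rcases hq with rfl | rfl | rfl | rfl <;>
      first
      | exact Commute.refl _
      | exact hl1n | exact hl1n.symm | exact hl2n | exact hl2n.symm | exact hl12 | exact hl12.symm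
      | exact central_comm hcc _ | exact (central_comm hcc _).symm
  set P := closure ({n, l1, l2, c} : Set E) with hP
  have nP : n ∈ P := subset_closure (by simp)
  have l1P : l1 ∈ P := subset_closure (by simp)
  have l2P : l2 ∈ P := subset_closure (by simp)
  have cP : c ∈ P := subset_closure (by simp)
  have hP3 : ∀ x ∈ P, x ^ 3 = 1 := fun x hx => (exists_exponents hn3 hl13 hl23 hc3 hcomm hx).1
  have hPK : ∀ x ∈ P, σ x = 1 → x = 1 := by
    intro x hx h1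
    obtain ⟨-, e, rfl⟩ := exists_exponents hn3 hl13 hl23 hc3 hcomm hx
    simp only [map_mul, map_pow, hn, hl1, hl2, hcT] at h1
    have := @R.inj e (0, 0, 0, 0) (by simpa using h1)
    subst this
    simp
  -- the action of the translations
  have kdn : ⁅d1, n⁆ = l1 * c⁻¹ := by
    obtain ⟨k, hk, e⟩ := exists_ker_mul σ (x := ⁅d1, n⁆) (y := l1 * c⁻¹)
      (by rw [map_commutatorElement, hd1, hn, R.d1n, map_mul, map_inv, hl1, hcT])
    have hkc := cen hk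
    have hcl : d1⁻¹ * l1 * d1 = c⁻¹ * l1 := by
      have hd : l1 * d1 = c⁻¹ * d1 * l1 := by rw [hcdef, commutatorElement_def]; group
      calc d1⁻¹ * l1 * d1 = d1⁻¹ * (l1 * d1) := by group
        _ = d1⁻¹ * c⁻¹ * (d1 * l1) := by rw [hd]; group
        _ = c⁻¹ * l1 := by rw [central_comm (inv_mem hcc) d1⁻¹]; group
    have e1 := conj_commutator (g ^ 4) d1 n
    rw [ud1, un, e] at e1
    have lhs : g ^ 4 * (l1 * c⁻¹ * k) * (g ^ 4)⁻¹ = l1⁻¹ * c⁻¹ * k := by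
      rw [← conj_mul, ← conj_mul, ul1, conj_central (inv_mem hcc), conj_central hkc]
    have e2 : ⁅d1⁻¹, n⁆ = l1⁻¹ * c⁻¹ * k⁻¹ := by
      calc ⁅d1⁻¹, n⁆ = d1⁻¹ * ⁅d1, n⁆⁻¹ * d1 := by simp only [commutatorElement_def]; group
        _ = d1⁻¹ * (k⁻¹ * (c * l1⁻¹)) * d1 := by rw [e]; group
        _ = (d1⁻¹ * k⁻¹ * d1) * (d1⁻¹ * c * d1) * (d1⁻¹ * l1 * d1)⁻¹ := by group
        _ = k⁻¹ * c * (c⁻¹ * l1)⁻¹ := by
          rw [hcl]; congr 2
          · simpa using conj_central (inv_mem hkc) d1⁻¹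
          · simpa using conj_central hcc d1⁻¹
        _ = k⁻¹ * (c * (l1⁻¹ * c)) := by group
        _ = l1⁻¹ * c⁻¹ * k⁻¹ := by
          rw [← central_comm (inv_mem hkc) (c * (l1⁻¹ * c)), ← central_comm hcc (l1⁻¹ * c)]
          congr 1
          rw [mul_assoc]
          congr 1
          exact eq_inv_of_mul_eq_one_left (by rw [← hc3]; simp [pow_succ, mul_assoc])
    rw [lhs, e2] at e1
    have hk1 : k = 1 := sq_one hk (mul_eq_one_iff_eq_inv.2 (mul_left_cancel e1))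
    rw [e, hk1, mul_one]
  have kd2n : ⁅d2, n⁆ = l2 * c⁻¹ := by
    have e := conj_commutator (g ^ 2) d1 n
    rw [← hd2def, g2n, kdn, ← conj_mul, ← hl2def, conj_central (inv_mem hcc)] at e
    exact e.symm
  have kd2l2 : ⁅d2, l2⁆ = c := by
    have e := conj_commutator (g ^ 2) d1 l1
    rw [← hd2def, ← hl2def, ← hcdef, conj_central hcc] at e
    exact e.symm
  have hk12 : σ ⁅d1, l2⁆ = 1 := by rw [map_commutatorElement, hd1, hl2, R.d1l2]
  have kd2l1 : ⁅d2, l1⁆ = ⁅d1, l2⁆⁻¹ := by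
    have e := conj_commutator (g ^ 2) d1 l2
    rw [← hd2def, g2l2, conj_central (cen hk12)] at e
    rw [e, ← comm_inv_right_of_central (y := l1⁻¹) (by rw [← e]; exact cen hk12), inv_inv]
  have conj_eq : ∀ d x : E, d * x * d⁻¹ = ⁅d, x⁆ * x := fun d x => by
    simp only [commutatorElement_def]; group
  obtain ⟨z, hz, hq⟩ := exists_ker_mul σ (x := ⁅d1, d2⁆) (y := n * l1⁻¹ * l2⁻¹)
    (by simp [hd1, hd2, hn, hl1, hl2, R.d1d2, map_commutatorElement])
  have k12 : ⁅d1, l2⁆ = 1 := by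
    set k := ⁅d1, l2⁆ with hkdef
    have hkc := cen hk12
    have a : d1 * d2 * n * (d1 * d2)⁻¹ = k * l2 * c⁻¹ * (l1 * c⁻¹ * n) := by
      calc d1 * d2 * n * (d1 * d2)⁻¹ = d1 * (d2 * n * d2⁻¹) * d1⁻¹ := by group
        _ = d1 * (l2 * c⁻¹ * n) * d1⁻¹ := by rw [conj_eq d2 n, kd2n]
        _ = _ := by
          rw [← conj_mul, ← conj_mul, conj_eq d1 l2, conj_central (inv_mem hcc), conj_eq d1 n,
            kdn, hkdef]
    have b : d2 * d1 * n * (d2 * d1)⁻¹ = k⁻¹ * l1 * c⁻¹ * (l2 * c⁻¹ * n) := by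
      calc d2 * d1 * n * (d2 * d1)⁻¹ = d2 * (d1 * n * d1⁻¹) * d2⁻¹ := by group
        _ = d2 * (l1 * c⁻¹ * n) * d2⁻¹ := by rw [conj_eq d1 n, kdn]
        _ = _ := by
          rw [← conj_mul, ← conj_mul, conj_eq d2 l1, conj_central (inv_mem hcc), conj_eq d2 n,
            kd2n, kd2l1]
    have key : ∀ {x y : E}, Commute x y → x * c⁻¹ * (y * c⁻¹ * n) = y * c⁻¹ * (x * c⁻¹ * n) := by
      intro x y hxy
      calc x * c⁻¹ * (y * c⁻¹ * n) = (x * y) * c⁻¹ * c⁻¹ * n := by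
            rw [mul_assoc x c⁻¹, ← mul_assoc c⁻¹, ← mul_assoc c⁻¹, ← central_comm (inv_mem hcc) y]
            group
        _ = _ := by
            rw [hxy.eq, mul_assoc y c⁻¹, ← mul_assoc c⁻¹, ← mul_assoc c⁻¹,
              ← central_comm (inv_mem hcc) x]
            group
    have hqc : Commute (n * l1⁻¹ * l2⁻¹ * z) (k⁻¹ * l1 * c⁻¹ * (l2 * c⁻¹ * n)) := by
      have hz' : ∀ w, Commute z w := fun w => (central_comm (cen hz) w).symm
      have hk' : ∀ w, Commute k⁻¹ w := fun w => (central_comm (inv_mem hkc) w).symm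
      have hPab : ∀ p ∈ P, ∀ q ∈ P, Commute p q := by
        intro p hp q hq
        have : IsMulCommutative P := isMulCommutative_closure fun p hp q hq => by
          by_cases e : p = q
          · rw [e]
          · exact hcomm hp hq e
        exact congrArg Subtype.val (mul_comm' (⟨p, hp⟩ : P) ⟨q, hq⟩)
      have hx : Commute (n * l1⁻¹ * l2⁻¹) (l1 * c⁻¹ * (l2 * c⁻¹ * n)) :=
        hPab _ (mul_mem (mul_mem nP (inv_mem l1P)) (inv_mem l2P)) _
          (mul_mem (mul_mem l1P (inv_mem cP)) (mul_mem (mul_mem l2P (inv_mem cP)) nP))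
      rw [show k⁻¹ * l1 * c⁻¹ * (l2 * c⁻¹ * n) = k⁻¹ * (l1 * c⁻¹ * (l2 * c⁻¹ * n)) by group]
      exact ((hk' _).symm.mul_right hx).mul_left (hz' _)
    have e : d1 * d2 * n * (d1 * d2)⁻¹ =
        ⁅d1, d2⁆ * (d2 * d1 * n * (d2 * d1)⁻¹) * ⁅d1, d2⁆⁻¹ := by
      simp only [commutatorElement_def]; group
    rw [a, b, hq, hqc.eq, mul_inv_cancel_right,
      show k * l2 * c⁻¹ * (l1 * c⁻¹ * n) = k * (l2 * c⁻¹ * (l1 * c⁻¹ * n)) by group,
      show k⁻¹ * l1 * c⁻¹ * (l2 * c⁻¹ * n) = k⁻¹ * (l1 * c⁻¹ * (l2 * c⁻¹ * n)) by group,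
      key hl12.symm] at e
    exact sq_one hk12 (mul_eq_one_iff_eq_inv.2 (mul_right_cancel e))
  -- the normaliser
  set N := normalizer (P : Set E)
  have norm_of : ∀ x : E, x * n * x⁻¹ ∈ P → x * l1 * x⁻¹ ∈ P → x * l2 * x⁻¹ ∈ P → x ∈ N := by
    intro x h1 h2 h3
    refine mem_normalizer_of_finite P fun y hy => ?_
    have : P.map (MulAut.conj x).toMonoidHom ≤ P := by
      rw [hP, MonoidHom.map_closure, closure_le]
      rintro _ ⟨w, hw, rfl⟩
      rcases hw with rfl | rfl | rfl | rfl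
      · exact h1
      · exact h2
      · exact h3
      · show x * c * x⁻¹ ∈ P
        rw [conj_central hcc]; exact cP
    exact this ⟨y, hy, rfl⟩
  have d1N : d1 ∈ N := norm_of d1 (by rw [conj_eq, kdn]; exact mul_mem (mul_mem l1P (inv_mem cP)) nP)
    (by rw [conj_eq, ← hcdef]; exact mul_mem cP l1P) (by rw [conj_eq, k12]; simpa using l2P)
  have d2N : d2 ∈ N := norm_of d2
    (by rw [conj_eq, kd2n]; exact mul_mem (mul_mem l2P (inv_mem cP)) nP)
    (by rw [conj_eq, kd2l1, k12]; simpa using l1P) (by rw [conj_eq, kd2l2]; exact mul_mem cP l2P)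
  have hcomu : ∀ w, g ^ 4 * (g * w * g⁻¹) * (g ^ 4)⁻¹ = g * (g ^ 4 * w * (g ^ 4)⁻¹) * g⁻¹ :=
    fun w => by group
  have exact_lift : ∀ {x p : E}, g ^ 4 * x * (g ^ 4)⁻¹ = x⁻¹ → g ^ 4 * p * (g ^ 4)⁻¹ = p⁻¹ →
      σ (g * x * g⁻¹) = σ p → g * x * g⁻¹ = p := by
    intro x p hx hp h
    obtain ⟨w, hw, e⟩ := exists_ker_mul σ h
    have e1 := hcomu x
    rw [hx, ← conj_inv, e, ← conj_mul, hp, conj_central (cen hw), mul_inv_rev,
      ← central_comm (inv_mem (cen hw)) p⁻¹] at e1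
    have : w = 1 := sq_one hw (mul_eq_one_iff_eq_inv.2 (mul_left_cancel e1))
    rw [e, this, mul_one]
  have gl1 : g * l1 * g⁻¹ = l1⁻¹ * l2 := exact_lift ul1
    (by rw [← conj_mul, ← conj_inv, ul1, ul2, inv_inv, mul_inv_rev, inv_inv,
      hl12.symm.inv_left.eq])
    (by simp [hg, hl1, hl2, R.gl1])
  have gl2 : g * l2 * g⁻¹ = l1⁻¹ * l2⁻¹ := exact_lift ul2
    (by rw [← conj_mul, ← conj_inv, ← conj_inv, ul1, ul2, inv_inv, inv_inv, mul_inv_rev,
      inv_inv, inv_inv, hl12.eq])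
    (by simp [hg, hl1, hl2, R.gl2])
  have gN : g ∈ N := norm_of g (by rw [gn]; exact inv_mem nP)
    (by rw [gl1]; exact mul_mem (inv_mem l1P) l2P)
    (by rw [gl2]; exact mul_mem (inv_mem l1P) (inv_mem l2P))
  have PN : P ≤ N := le_normalizer
  have KN : σ.ker ≤ N := fun k hk => mem_normalizer_of_finite P fun y hy => by
    rwa [← central_comm (hc hk) y, mul_inv_cancel_right]
  haveI : (P.subgroupOf N).Normal := normal_in_normalizer
  let π := QuotientGroup.mk' (P.subgroupOf N)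
  have πP : ∀ x : N, (x : E) ∈ P → π x = 1 := fun x hx => (QuotientGroup.eq_one_iff x).2 hx
  have πker : ∀ x : N, π x = 1 → (x : E) ∈ P := fun x hx => (QuotientGroup.eq_one_iff x).1 hx
  have πcen : ∀ (x : N), (x : E) ∈ center E → ∀ y : N, Commute (π x) (π y) := fun x hx y =>
    (show Commute x y from Subtype.ext (central_comm hx y).symm).map π
  let A := π ⟨d1, d1N⟩
  let B := π ⟨d2, d2N⟩
  let G := π ⟨g, gN⟩
  let Z := π ⟨z, KN (MonoidHom.mem_ker.2 hz)⟩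
  have hZc : ∀ y : N, Commute Z (π y) := πcen _ (cen hz)
  have hAB : ⁅A, B⁆ = Z := by
    have hm : ⁅(⟨d1, d1N⟩ : N), (⟨d2, d2N⟩ : N)⁆ = (⟨n * l1⁻¹ * l2⁻¹,
        mul_mem (mul_mem (PN nP) (inv_mem (PN l1P))) (inv_mem (PN l2P))⟩ : N) *
        ⟨z, KN (MonoidHom.mem_ker.2 hz)⟩ := Subtype.ext hq
    show ⁅π _, π _⁆ = _
    rw [← map_commutatorElement, hm, map_mul,
      πP _ (mul_mem (mul_mem nP (inv_mem l1P)) (inv_mem l2P)), one_mul]
  have hz1 : z = 1 := by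
    obtain ⟨w1, hw1, e1⟩ := exists_ker_mul σ (x := g * d1 * g⁻¹)
      (y := d1 * d2 * d2 * (n⁻¹ * l1⁻¹ * l2⁻¹)) (by simp [hg, hd1, hd2, hn, hl1, hl2, R.gd1])
    obtain ⟨w2, hw2, e2⟩ := exists_ker_mul σ (x := g * d2 * g⁻¹)
      (y := d1 * d2 * (n * l2⁻¹)) (by simp [hg, hd1, hd2, hn, hl2, R.gd2])
    have mw1 : w1 ∈ N := KN (MonoidHom.mem_ker.2 hw1)
    have mw2 : w2 ∈ N := KN (MonoidHom.mem_ker.2 hw2)
    have hp1 : n⁻¹ * l1⁻¹ * l2⁻¹ ∈ P := mul_mem (mul_mem (inv_mem nP) (inv_mem l1P)) (inv_mem l2P)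
    have hp2 : n * l2⁻¹ ∈ P := mul_mem nP (inv_mem l2P)
    have f1 : G * A * G⁻¹ = A * B * B * π ⟨w1, mw1⟩ := by
      have hm : (⟨g, gN⟩ : N) * ⟨d1, d1N⟩ * ⟨g, gN⟩⁻¹ =
          ⟨d1, d1N⟩ * ⟨d2, d2N⟩ * ⟨d2, d2N⟩ * ⟨_, PN hp1⟩ * ⟨w1, mw1⟩ := Subtype.ext e1
      have := congrArg π hm
      rwa [map_mul, map_mul, map_inv, map_mul, map_mul, map_mul, map_mul, πP ⟨_, PN hp1⟩ hp1, mul_one] at this
    have f2 : G * B * G⁻¹ = A * B * π ⟨w2, mw2⟩ := by
      have hm : (⟨g, gN⟩ : N) * ⟨d2, d2N⟩ * ⟨g, gN⟩⁻¹ =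
          ⟨d1, d1N⟩ * ⟨d2, d2N⟩ * ⟨_, PN hp2⟩ * ⟨w2, mw2⟩ := Subtype.ext e2
      have := congrArg π hm
      rwa [map_mul, map_mul, map_inv, map_mul, map_mul, map_mul, πP ⟨_, PN hp2⟩ hp2, mul_one] at this
    have hc1 : π ⟨w1, mw1⟩ ∈ center (N ⧸ P.subgroupOf N) := mem_center_iff.2 fun y => by
      obtain ⟨y, rfl⟩ := QuotientGroup.mk_surjective y
      exact (πcen ⟨w1, mw1⟩ (cen hw1) y).symm.eq
    have hc2 : π ⟨w2, mw2⟩ ∈ center (N ⧸ P.subgroupOf N) := mem_center_iff.2 fun y => by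
      obtain ⟨y, rfl⟩ := QuotientGroup.mk_surjective y
      exact (πcen ⟨w2, mw2⟩ (cen hw2) y).symm.eq
    have hZ : Z ∈ center (N ⧸ P.subgroupOf N) := mem_center_iff.2 fun y => by
      obtain ⟨y, rfl⟩ := QuotientGroup.mk_surjective y
      exact (hZc y).symm.eq
    have hBA : ⁅B, A⁆ = Z⁻¹ := by rw [← commutatorElement_inv, hAB]
    have e := conj_commutator G A B
    rw [f1, f2, hAB, conj_central hZ, comm_mul_central hc1 hc2] at e
    have hBAB : ⁅B, A * B⁆ = Z⁻¹ := by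
      rw [comm_mul_right_of_central (by rw [commutatorElement_self]; exact one_mem _), hBA,
        commutatorElement_self, mul_one]
    have r : ⁅A * B * B, A * B⁆ = Z⁻¹ := by
      rw [comm_mul_left_of_central (by rw [hBAB]; exact inv_mem hZ), hBAB, commutatorElement_self,
        mul_one]
    rw [r] at e
    have hm : (⟨z, KN (MonoidHom.mem_ker.2 hz)⟩ * ⟨z, KN (MonoidHom.mem_ker.2 hz)⟩ : N).1 ∈ P :=
      πker _ (by rw [map_mul]; exact mul_eq_one_iff_eq_inv.2 e)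
    exact sq_one hz (hPK _ hm (by simp [hz]))
  have hAB1 : Commute A B := by
    rw [← commutatorElement_eq_one_iff_commute, hAB]
    exact πP _ (by rw [show (⟨z, KN (MonoidHom.mem_ker.2 hz)⟩ : N).1 = z from rfl, hz1]
                   exact one_mem P)
  -- the preimage of the group of order 729
  let L : Subgroup E := closure ({n, l1, l2, c, d1, d2} : Set E) ⊔ σ.ker
  have hL : R.grp.comap σ = L := by
    show R.grp.comap σ = Subgroup.closure _ ⊔ σ.ker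
    rw [← Subgroup.comap_map_eq, MonoidHom.map_closure]
    simp [ThreeRel.grp, Set.image_insert_eq, hn, hl1, hl2, hcT, hd1, hd2]
  have LN : L ≤ N := by
    refine sup_le ((closure_le _).2 ?_) KN
    rintro x (rfl | rfl | rfl | rfl | rfl | rfl)
    exacts [PN nP, PN l1P, PN l2P, PN cP, d1N, d2N]
  -- the image of the preimage modulo P is generated by A, B and central elements of exponent 3
  let W : Subgroup (N ⧸ P.subgroupOf N) :=
    closure ({A, B} ∪ {X | ∃ k : N, σ (k : E) = 1 ∧ π k = X})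
  have hLW : ∀ (x : N), (x : E) ∈ L → π x ∈ W := by
    have hle : L ≤ ((W.comap π).map N.subtype) := by
      refine sup_le ((closure_le _).2 ?_) fun k hk =>
        ⟨⟨k, KN hk⟩, subset_closure (Or.inr ⟨_, MonoidHom.mem_ker.1 hk, rfl⟩), rfl⟩
      have hp : ∀ p ∈ P, p ∈ (W.comap π).map N.subtype := fun p hp =>
        ⟨⟨p, PN hp⟩, by show π _ ∈ W; rw [πP _ hp]; exact one_mem W, rfl⟩
      rintro x (rfl | rfl | rfl | rfl | rfl | rfl)
      exacts [hp _ nP, hp _ l1P, hp _ l2P, hp _ cP,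
        ⟨⟨_, d1N⟩, subset_closure (Or.inl (Or.inl rfl)), rfl⟩,
        ⟨⟨_, d2N⟩, subset_closure (Or.inl (Or.inr rfl)), rfl⟩]
    intro x hx
    obtain ⟨y, hy, e⟩ := hle hx
    rwa [show y = x from Subtype.ext e] at hy
  have hgens : ∀ X ∈ ({A, B} ∪ {X | ∃ k : N, σ (k : E) = 1 ∧ π k = X}),
      (∀ Y ∈ ({A, B} ∪ {X | ∃ k : N, σ (k : E) = 1 ∧ π k = X}), Commute X Y) ∧ X ^ 9 = 1 := by
    have hK9 : ∀ k : N, σ (k : E) = 1 → (π k) ^ 9 = 1 := fun k hk => by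
      rw [← map_pow, show k ^ 9 = 1 from Subtype.ext (by
        push_cast
        rw [show 9 = 3 * 3 from rfl, pow_mul, h3 _ hk, one_pow]), map_one]
    have h9 : ∀ (d : E) (hd : d ∈ N), (∃ p ∈ P, σ (d ^ 3) = σ p) → (π ⟨d, hd⟩) ^ 9 = 1 := by
      rintro d hd ⟨p, hp, e⟩
      obtain ⟨w, hw, ew⟩ := exists_ker_mul σ e
      have hw' : w ∈ N := KN (MonoidHom.mem_ker.2 hw)
      have e3 : (π ⟨d, hd⟩) ^ 3 = π ⟨w, hw'⟩ := by
        rw [← map_pow, show (⟨d, hd⟩ : N) ^ 3 = ⟨p, PN hp⟩ * ⟨w, hw'⟩ from Subtype.ext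
          (by push_cast; exact ew), map_mul, πP _ hp, one_mul]
      rw [show 9 = 3 * 3 from rfl, pow_mul, e3, ← map_pow,
        show (⟨w, hw'⟩ : N) ^ 3 = 1 from Subtype.ext (by push_cast; exact h3 _ hw), map_one]
    have hA9 : A ^ 9 = 1 := h9 d1 d1N ⟨l2⁻¹, inv_mem l2P, by simp [hd1, hl2, R.d1cube]⟩
    have hB9 : B ^ 9 = 1 := h9 d2 d2N ⟨l1, l1P, by
      have : R.D2 ^ 3 = R.L1 := by
        rw [← R.d2_def, conj_pow, R.d1cube, ← R.l2_def]
        calc R.g ^ 2 * (R.g ^ 2 * R.L1 * (R.g ^ 2)⁻¹)⁻¹ * (R.g ^ 2)⁻¹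
            = (R.g ^ 4 * R.L1 * (R.g ^ 4)⁻¹)⁻¹ := by group
          _ = R.L1 := by rw [R.ul1, inv_inv]
      rw [map_pow, hd2, hl1, this]⟩
    rintro X ((rfl | rfl) | ⟨k, hk, rfl⟩)
    · refine ⟨?_, hA9⟩
      rintro Y ((rfl | rfl) | ⟨k, hk, rfl⟩)
      exacts [Commute.refl _, hAB1, (πcen k (cen hk) _).symm]
    · refine ⟨?_, hB9⟩
      rintro Y ((rfl | rfl) | ⟨k, hk, rfl⟩)
      exacts [hAB1.symm, Commute.refl _, (πcen k (cen hk) _).symm]
    · refine ⟨?_, hK9 k hk⟩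
      rintro Y ((rfl | rfl) | ⟨k', hk', rfl⟩)
      exacts [πcen k (cen hk) _, πcen k (cen hk) _, πcen k (cen hk) _]
  haveI hW : IsMulCommutative W := isMulCommutative_closure fun X hX Y hY => ((hgens X hX).1 Y hY).eq
  have hWc : ∀ {X Y}, X ∈ W → Y ∈ W → Commute X Y := fun hX hY =>
    congrArg Subtype.val (mul_comm' (⟨_, hX⟩ : W) ⟨_, hY⟩)
  have hW9 : ∀ X ∈ W, X ^ 9 = 1 := by
    intro X hX
    induction hX using closure_induction with
    | mem X hX => exact (hgens X hX).2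
    | one => exact one_pow 9
    | mul X Y hX hY eX eY => rw [(hWc hX hY).mul_pow, eX, eY, one_mul]
    | inv X _ eX => rw [inv_pow, eX, inv_one]
  refine ⟨?_, fun x hx => ?_⟩
  · rw [eq_bot_iff, hL]
    have hle : ⁅L, L⁆ ≤ P := by
      rw [Subgroup.commutator_le]
      intro x hx y hy
      exact πker ⁅(⟨x, LN hx⟩ : N), ⟨y, LN hy⟩⁆ (by
        rw [map_commutatorElement, commutatorElement_eq_one_iff_commute]
        exact hWc (hLW _ hx) (hLW _ hy))
    rintro k ⟨hk, hk'⟩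
    exact Subgroup.mem_bot.2 (hPK k (hle hk') (MonoidHom.mem_ker.1 hk))
  · obtain ⟨y, rfl⟩ := hs x
    have hy : y ∈ L := hL ▸ hx
    have h9 : y ^ 9 ∈ P := πker ((⟨y, LN hy⟩ : N) ^ 9) (by rw [map_pow, hW9 _ (hLW _ hy)])
    rw [← map_pow, show y ^ 27 = (y ^ 9) ^ 3 by rw [← pow_mul], hP3 _ h9, map_one]

end Cfsg.Agent.J3Mult75
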